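import Groth.Agent.H11Norm.Basic
import Groth.Agent.H8Props.FinLocFree.Sheaf
import Mathlib.RingTheory.Norm.Basic
import Mathlib.LinearAlgebra.Matrix.Adjugate

/-!
# Norms along finite morphisms with locally free direct image
-/

set_option autoImplicit false
set_option linter.style.haveILetI false

noncomputable section

universe u

open CategoryTheory CategoryTheory.Limits AlgebraicGeometry Opposite TopologicalSpace

namespace Groth.Agent.H11Norm

variable {X X' : Scheme.{u}}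

/-- A free chart of a module has sections restricting to bases on all smaller opens. -/
theorem exists_sections_basis (F : X.Modules) {U : X.Opens} {r : ℕ}
    (e : F.restrict U.ι ≅ FlatMod.freeMod (↑U) r) :
    ∃ m : Fin r → Γ(F, U), ∀ (V : X.Opens) (h : V ≤ U), ∃ b : Module.Basis (Fin r) Γ(X, V) Γ(F, V),
      ∀ j, b j = F.presheaf.map (homOfLE h).op (m j) := by
  have hUtop : U ≤ U.ι ''ᵁ ⊤ := le_of_eq (Scheme.Opens.ι_image_top U).symm
  refine ⟨fun j => F.presheaf.map (homOfLE hUtop).op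
    ((F.restrictAppIso U.ι ⊤).hom.hom (e.inv.app ⊤ (H29Fitt.gen (↑U) r j ⊤))), fun V hle => ?_⟩
  suffices h : ∀ (W : X.Opens) (_ : W = U.ι ''ᵁ (U.ι ⁻¹ᵁ V)) (h0 : W ≤ U.ι ''ᵁ ⊤),
      ∃ b : Module.Basis (Fin r) Γ(X, W) Γ(F, W), ∀ j, b j = F.presheaf.map (homOfLE h0).op
        ((F.restrictAppIso U.ι ⊤).hom.hom (e.inv.app ⊤ (H29Fitt.gen (↑U) r j ⊤))) by
    obtain ⟨b, hb⟩ := h V (by
      rw [Scheme.Hom.image_preimage_eq_opensRange_inf, Scheme.Opens.opensRange_ι]
      exact (inf_eq_right.2 hle).symm) (hle.trans hUtop)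
    exact ⟨b, fun j => (hb j).trans (H10Coh.mres_mres _ _ _ _).symm⟩
  rintro _ rfl h0
  let E := (F.restrictAppIso U.ι (U.ι ⁻¹ᵁ V)).hom.hom.comp (e.inv.app (U.ι ⁻¹ᵁ V)).hom
  have hE : Function.Bijective E :=
    (ConcreteCategory.bijective_of_isIso (F.restrictAppIso U.ι (U.ι ⁻¹ᵁ V)).hom).comp
      (ConcreteCategory.bijective_of_isIso (e.inv.app (U.ι ⁻¹ᵁ V)))
  have hEs : ∀ (a : Γ(↑U, U.ι ⁻¹ᵁ V)) (y : Γ(FlatMod.freeMod (↑U) r, U.ι ⁻¹ᵁ V)),
      E (a • y) = (U.ι.appIso (U.ι ⁻¹ᵁ V)).inv a • E y := fun a y => by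
    change (F.restrictAppIso U.ι _).hom (e.inv.app _ (a • y)) = _
    rw [Scheme.Modules.Hom.app_smul]
    rfl
  have hspan := H29Fitt.span_of_semilinear (U.ι.appIso (U.ι ⁻¹ᵁ V)).inv.hom E hEs hE.2
    (H29Fitt.gen_span (X := (↑U : Scheme.{u})) r (U.ι ⁻¹ᵁ V))
  have hb := ConcreteCategory.bijective_of_isIso (U.ι.appIso (U.ι ⁻¹ᵁ V)).inv
  have hind : LinearIndependent Γ(X, U.ι ''ᵁ (U.ι ⁻¹ᵁ V))
      (fun j => E (H29Fitt.gen (↑U) r j (U.ι ⁻¹ᵁ V))) := by
    rw [Fintype.linearIndependent_iff]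
    intro c hc
    choose c' hc' using fun j => hb.2 (c j)
    have h0 : ∑ j, c' j • H29Fitt.gen (↑U) r j (U.ι ⁻¹ᵁ V) = 0 := hE.1 (by
      rw [map_sum, map_zero, ← hc]
      exact Finset.sum_congr rfl fun j _ => by rw [hEs, hc'])
    intro j
    rw [← hc', congrFun (H29Fitt.gen_independent r _ c' h0) j]
    exact map_zero (U.ι.appIso (U.ι ⁻¹ᵁ V)).inv.hom
  refine ⟨Module.Basis.mk hind hspan.ge, fun j => ?_⟩
  rw [Module.Basis.mk_apply]
  rw [← H29Fitt.res_gen r j (le_top : U.ι ⁻¹ᵁ V ≤ ⊤)]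
  change (F.restrictAppIso U.ι _).hom (e.inv.app _ _) = _
  rw [H11Tilde.app_map_apply]
  rfl

/-- The algebra structure on sections. -/
abbrev alg (g : X' ⟶ X) (V : X.Opens) : Algebra Γ(X, V) Γ(X', g ⁻¹ᵁ V) := (g.app V).hom.toAlgebra

/-- `m` restricts to bases over every open inside `U`. -/
def IsChart (g : X' ⟶ X) (U : X.Opens) (r : ℕ) : Prop :=
  ∃ m : Fin r → Γ(X', g ⁻¹ᵁ U), ∀ (V : X.Opens) (h : V ≤ U),
    letI := alg g V
    ∃ b : Module.Basis (Fin r) Γ(X, V) Γ(X', g ⁻¹ᵁ V), ∀ j, b j = res (g.preimage_mono h) (m j)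

theorem isChart_of_iso (g : X' ⟶ X) {U : X.Opens} {r : ℕ}
    (e : ((Coh.push g).obj (Coh.structureModule X')).restrict U.ι ≅ FlatMod.freeMod (↑U) r) :
    IsChart g U r := by
  obtain ⟨m, hm⟩ := exists_sections_basis _ e
  refine ⟨m, fun V h => ?_⟩
  obtain ⟨b, hb⟩ := hm V h
  letI := alg g V
  let f : Γ((Coh.push g).obj (Coh.structureModule X'), V) ≃ₗ[Γ(X, V)] Γ(X', g ⁻¹ᵁ V) :=
    { toFun := fun a => a
      invFun := fun a => a
      map_add' := fun _ _ => rfl
      map_smul' := fun _ _ => rfl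
      left_inv := fun _ => rfl
      right_inv := fun _ => rfl }
  exact ⟨b.map f, fun j => by rw [Module.Basis.map_apply, hb]; rfl⟩

theorem subsingleton_of_not_nonempty {V : X.Opens} (h : ∀ x : X, x ∉ V) : Subsingleton Γ(X, V) :=
  ⟨fun s t => TopCat.Presheaf.section_ext X.sheaf V s t fun x hx => absurd hx (h x)⟩

theorem res_app (g : X' ⟶ X) {U V : X.Opens} (h : V ≤ U) (c : Γ(X, U)) :
    res (g.preimage_mono h) (g.app U c) = g.app V (res h c) :=
  (congr($(g.naturality (homOfLE h).op) c)).symm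

/-- The norm on sections, to the power `R / rank`. -/
def nrm (g : X' ⟶ X) (R : ℕ) (V : X.Opens) (a : Γ(X', g ⁻¹ᵁ V)) : Γ(X, V) :=
  letI := alg g V
  Algebra.norm Γ(X, V) a ^ (R / Module.finrank Γ(X, V) Γ(X', g ⁻¹ᵁ V))

theorem nrm_one (g : X' ⟶ X) (R : ℕ) (V : X.Opens) : nrm g R V 1 = 1 := by
  rw [nrm, map_one, one_pow]

theorem nrm_mul (g : X' ⟶ X) (R : ℕ) (V : X.Opens) (a b : Γ(X', g ⁻¹ᵁ V)) :
    nrm g R V (a * b) = nrm g R V a * nrm g R V b := by
  rw [nrm, map_mul, mul_pow]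
  rfl

variable {g : X' ⟶ X} {U : X.Opens} {r : ℕ}

theorem IsChart.rank_pos [Surjective g] (hc : IsChart g U r) {V : X.Opens} (h : V ≤ U)
    [Nontrivial Γ(X, V)] : 0 < r := by
  rcases Nat.eq_zero_or_pos r with rfl | hr
  · exfalso
    obtain ⟨m, hm⟩ := hc
    letI := alg g V
    obtain ⟨b, -⟩ := hm V h
    haveI : Subsingleton Γ(X', g ⁻¹ᵁ V) := b.repr.injective.subsingleton
    haveI : Subsingleton Γ(X, V) := subsingleton_of_not_nonempty fun x hx => by
      obtain ⟨z, rfl⟩ := g.surjective x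
      haveI : Nonempty (g ⁻¹ᵁ V : X'.Opens) := ⟨⟨z, hx⟩⟩
      exact not_nontrivial Γ(X', g ⁻¹ᵁ V) inferInstance
    exact not_nontrivial Γ(X, V) inferInstance
  · exact hr

theorem IsChart.finrank_eq (hc : IsChart g U r) {V : X.Opens} (h : V ≤ U) [Nontrivial Γ(X, V)] :
    letI := alg g V
    Module.finrank Γ(X, V) Γ(X', g ⁻¹ᵁ V) = r := by
  obtain ⟨m, hm⟩ := hc
  letI := alg g V
  obtain ⟨b, -⟩ := hm V h
  rw [Module.finrank_eq_card_basis b, Fintype.card_fin]

theorem IsChart.norm_natural (hc : IsChart g U r) {V V' : X.Opens} (h : V ≤ U) (h' : V' ≤ V)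
    (a : Γ(X', g ⁻¹ᵁ V)) :
    (letI := alg g V'; Algebra.norm Γ(X, V') (res (g.preimage_mono h') a)) =
      res h' (letI := alg g V; Algebra.norm Γ(X, V) a) := by
  classical
  obtain ⟨m, hm⟩ := hc
  letI := alg g V
  letI := alg g V'
  obtain ⟨b, hb⟩ := hm V h
  obtain ⟨b', hb'⟩ := hm V' (h'.trans h)
  have hbb : ∀ j, b' j = res (g.preimage_mono h') (b j) := fun j => by
    rw [hb', hb]
    exact (H10Coh.rres_rres _ _ _).symm
  have hrepr : ∀ (y : Γ(X', g ⁻¹ᵁ V)) (i : Fin r),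
      b'.repr (res (g.preimage_mono h') y) i = res h' (b.repr y i) := by
    intro y i
    have hy : res (g.preimage_mono h') y = ∑ j, res h' (b.repr y j) • b' j := by
      conv_lhs => rw [← b.sum_repr y]
      change (X'.presheaf.map _).hom _ = _
      rw [map_sum]
      refine Finset.sum_congr rfl fun j _ => ?_
      rw [Algebra.smul_def, Algebra.smul_def, map_mul, hbb]
      exact congrArg (· * _) (res_app g h' _)
    rw [hy, b'.repr_sum_self]
  rw [Algebra.norm_eq_matrix_det b, Algebra.norm_eq_matrix_det b']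
  change _ = (X.presheaf.map (homOfLE h').op).hom _
  rw [RingHom.map_det]
  refine congrArg Matrix.det (Matrix.ext fun i j => ?_)
  rw [Algebra.leftMulMatrix_eq_repr_mul, RingHom.mapMatrix_apply, Matrix.map_apply,
    Algebra.leftMulMatrix_eq_repr_mul, hbb]
  exact (congrArg (fun y => b'.repr y i)
    (map_mul (X'.presheaf.map (homOfLE (g.preimage_mono h')).op).hom _ _).symm).trans (hrepr _ _)

theorem IsChart.nrm_natural (hc : IsChart g U r) (R : ℕ) {V V' : X.Opens} (h : V ≤ U) (h' : V' ≤ V)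
    (a : Γ(X', g ⁻¹ᵁ V)) : res h' (nrm g R V a) = nrm g R V' (res (g.preimage_mono h') a) := by
  rcases subsingleton_or_nontrivial Γ(X, V') with hs | hn
  · exact Subsingleton.elim _ _
  haveI : Nontrivial Γ(X, V) := (X.presheaf.map (homOfLE h').op).hom.domain_nontrivial
  rw [nrm, nrm, hc.finrank_eq h, hc.finrank_eq (h'.trans h), hc.norm_natural h h']
  exact map_pow (X.presheaf.map (homOfLE h').op).hom _ _

theorem IsChart.nrm_app (hc : IsChart g U r) {R : ℕ} (hr : r ∣ R) {V : X.Opens}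
    (h : V ≤ U) (c : Γ(X, V)) : nrm g R V (g.app V c) = c ^ R := by
  rcases subsingleton_or_nontrivial Γ(X, V) with hs | hn
  · exact Subsingleton.elim _ _
  rw [nrm, hc.finrank_eq h]
  obtain ⟨m, hm⟩ := hc
  letI := alg g V
  obtain ⟨b, -⟩ := hm V h
  rw [show g.app V c = algebraMap Γ(X, V) Γ(X', g ⁻¹ᵁ V) c from rfl, Algebra.norm_algebraMap_of_basis b,
    Fintype.card_fin, ← pow_mul, Nat.mul_div_cancel' hr]

/-- A section divides its norm. -/
theorem IsChart.exists_mul_eq [Surjective g] (hc : IsChart g U r) {R : ℕ} (hR : 0 < R) (hr : r ∣ R)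
    {V : X.Opens} (h : V ≤ U) (a : Γ(X', g ⁻¹ᵁ V)) :
    ∃ a', a * a' = g.app V (nrm g R V a) := by
  classical
  rcases subsingleton_or_nontrivial Γ(X, V) with hs | hn
  · refine ⟨0, ?_⟩
    rw [mul_zero, Subsingleton.elim (nrm g R V a) 0, map_zero]
  have hr0 : 0 < r := hc.rank_pos h
  have hk : 0 < R / r := Nat.div_pos (Nat.le_of_dvd hR hr) hr0
  rw [nrm, hc.finrank_eq h]
  obtain ⟨m, hm⟩ := hc
  letI := alg g V
  obtain ⟨b, -⟩ := hm V h
  let M := Algebra.leftMulMatrix b a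
  let y := b.equivFun.symm (M.adjugate.mulVec (b.repr 1))
  have hy : a * y = algebraMap Γ(X, V) Γ(X', g ⁻¹ᵁ V) (Algebra.norm Γ(X, V) a) := by
    refine b.equivFun.injective ?_
    have h1 : b.equivFun (a * y) = M.mulVec (b.equivFun y) := by
      rw [Module.Basis.equivFun_apply, Module.Basis.equivFun_apply]
      exact (Algebra.leftMulMatrix_mulVec_repr b a y).symm
    rw [h1, LinearEquiv.apply_symm_apply, Matrix.mulVec_mulVec, Matrix.mul_adjugate,
      Matrix.smul_mulVec, Matrix.one_mulVec, Algebra.norm_eq_matrix_det b, Algebra.algebraMap_eq_smul_one,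
      map_smul, Module.Basis.equivFun_apply]
  obtain ⟨k, hk'⟩ := Nat.exists_eq_succ_of_ne_zero hk.ne'
  refine ⟨y * algebraMap Γ(X, V) Γ(X', g ⁻¹ᵁ V) (Algebra.norm Γ(X, V) a ^ k), ?_⟩
  rw [← mul_assoc, hy, ← map_mul, ← pow_succ', hk']
  rfl

variable (g)

/-- A norm on an open covered by free charts. -/
theorem exists_normData [Surjective g] {D : X.Opens} {ι : Type} [Finite ι] (U : ι → X.Opens) (r : ι → ℕ)
    (hU : ∀ i, IsChart g (U i) (r i)) (hD : D ≤ ⨆ i, U i) :
    ∃ d : NormData g D, (∀ i, max (r i) 1 ∣ d.R) ∧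
      ∀ (i : ι) (V : X.Opens) (h : V ≤ D), V ≤ U i → ∀ a, d.N V h a = nrm g d.R V a := by
  classical
  haveI := Fintype.ofFinite ι
  let R := ∏ i, max (r i) 1
  have hR : 0 < R := Finset.prod_pos fun i _ => lt_max_of_lt_right Nat.one_pos
  have hdvd : ∀ i, max (r i) 1 ∣ R := fun i => Finset.dvd_prod_of_mem _ (Finset.mem_univ i)
  -- existence and uniqueness on each open
  have ex : ∀ (W : X.Opens) (_ : W ≤ D) (a : Γ(X', g ⁻¹ᵁ W)), ∃! t : Γ(X, W),
      ∀ i, res (inf_le_left : W ⊓ U i ≤ W) t =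
        nrm g R (W ⊓ U i) (res (g.preimage_mono inf_le_left) a) := by
    intro W hW a
    refine TopCat.Sheaf.existsUnique_gluing' X.sheaf (fun i => W ⊓ U i) W (fun i => homOfLE inf_le_left)
      (fun x hx => ?_) _ (fun i j => ?_)
    · obtain ⟨i, hi⟩ := Opens.mem_iSup.1 (hD (hW hx))
      exact Opens.mem_iSup.2 ⟨i, hx, hi⟩
    · change res inf_le_left _ = res inf_le_right _
      rw [(hU i).nrm_natural R inf_le_right inf_le_left, (hU j).nrm_natural R inf_le_right inf_le_right]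
      exact congrArg _ ((H10Coh.rres_rres _ _ _).trans (H10Coh.rres_rres _ _ _).symm)
  choose N hN huniq using ex
  refine ⟨⟨R, hR, N, ?_, ?_, ?_, ?_⟩, hdvd, ?_⟩
  · intro W hW
    refine (huniq W hW 1 1 fun i => ?_).symm
    rw [show res _ (1 : Γ(X', g ⁻¹ᵁ W)) = 1 from map_one _, nrm_one]
    exact map_one _
  · intro W hW a b
    refine (huniq W hW (a * b) _ fun i => ?_).symm
    rw [show res _ (N W hW a * N W hW b) = res _ (N W hW a) * res _ (N W hW b) from map_mul _ _ _,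
      hN, hN, ← nrm_mul]
    exact congrArg _ (map_mul (X'.presheaf.map (homOfLE (g.preimage_mono inf_le_left)).op).hom a b).symm
  · intro W V hW hV a
    refine huniq V _ _ _ fun i => ?_
    have h1 : V ⊓ U i ≤ W ⊓ U i := inf_le_inf_right _ hV
    have h2 := congrArg (res h1) (hN W hW a i)
    rw [(hU i).nrm_natural R inf_le_right h1] at h2
    refine (H10Coh.rres_rres _ _ _).trans ((H10Coh.rres_rres inf_le_left h1 _).symm.trans (h2.trans ?_))
    exact congrArg _ ((H10Coh.rres_rres _ _ _).trans (H10Coh.rres_rres _ _ _).symm)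
  · intro W hW c
    refine (huniq W hW _ _ fun i => ?_).symm
    rcases Nat.eq_zero_or_pos (r i) with h0 | h0
    · haveI : Subsingleton Γ(X, W ⊓ U i) := by
        rcases subsingleton_or_nontrivial Γ(X, W ⊓ U i) with hs | hn
        · exact hs
        · exact absurd ((hU i).rank_pos (inf_le_right : W ⊓ U i ≤ U i)) (by omega)
      exact Subsingleton.elim _ _
    · have hri : r i ∣ R := by
        have := hdvd i
        rwa [max_eq_left h0] at this
      rw [res_app, (hU i).nrm_app hri inf_le_right]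
      exact map_pow _ _ _
  · intro i V hV hVi a
    refine (huniq V hV a _ fun j => ?_).symm
    exact (hU i).nrm_natural R hVi inf_le_left a

theorem NormData.reflects_of_local {D : X.Opens} (d : NormData g D)
    (h : ∀ (U : X.Opens) (hU : U ≤ D) (a : Γ(X', g ⁻¹ᵁ U)) (x : X), x ∈ U →
      ∃ (V : X.Opens) (hV : V ≤ U) (b : Γ(X', g ⁻¹ᵁ V)), x ∈ V ∧
        res (g.preimage_mono hV) a * b = g.app V (d.N V (hV.trans hU) (res (g.preimage_mono hV) a)))
    [Surjective g] : d.Reflects := by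
  intro U hU a x hx
  obtain ⟨V, hV, b, hxV, e⟩ := h U hU a x (X.basicOpen_le _ hx)
  obtain ⟨z, rfl⟩ := g.surjective x
  refine ⟨z, rfl, ?_⟩
  have h1 : g z ∈ X.basicOpen (d.N V (hV.trans hU) (res (g.preimage_mono hV) a)) := by
    rw [← d.natural U V hU hV, Scheme.basicOpen_res]
    exact ⟨hxV, hx⟩
  have h2 : z ∈ g ⁻¹ᵁ X.basicOpen (d.N V (hV.trans hU) (res (g.preimage_mono hV) a)) := h1
  rw [Scheme.preimage_basicOpen, ← e, Scheme.basicOpen_mul, Scheme.basicOpen_res] at h2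
  exact h2.1.2

/-- A finite surjective morphism with locally free direct image over a compact open has a norm there. -/
theorem exists_normData_of_chart [Surjective g] {D : X.Opens} (hD : IsCompact (D : Set X))
    (h : ∀ x ∈ D, ∃ (U : X.Opens) (r : ℕ), x ∈ U ∧ IsChart g U r) :
    ∃ d : NormData g D, d.Reflects := by
  choose U r hxU hc' using h
  obtain ⟨s, hs⟩ := hD.elim_finite_subcover (fun x : D => ((U x.1 x.2 : X.Opens) : Set X))
    (fun x => (U x.1 x.2).isOpen) (fun x hx => Set.mem_iUnion.2 ⟨⟨x, hx⟩, hxU x hx⟩)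
  let c : Fin s.card → D := fun i => (s.equivFin.symm i).1
  have hc : ∀ i, IsChart g (U (c i).1 (c i).2) (r (c i).1 (c i).2) := fun i => hc' (c i).1 (c i).2
  have hcov : ∀ x ∈ D, ∃ i, x ∈ U (c i).1 (c i).2 := fun x hx => by
    obtain ⟨y, hy, hxy⟩ := Set.mem_iUnion₂.1 (hs hx)
    exact ⟨s.equivFin ⟨y, hy⟩, by simpa [c] using hxy⟩
  obtain ⟨d, hdvd, hd⟩ := exists_normData g (D := D) (fun i => U (c i).1 (c i).2)
    (fun i => r (c i).1 (c i).2) hc (fun x hx => Opens.mem_iSup.2 (hcov x hx))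
  refine ⟨d, d.reflects_of_local g fun W hW a x hx => ?_⟩
  obtain ⟨i, hi⟩ := hcov x (hW hx)
  let V : X.Opens := W ⊓ U (c i).1 (c i).2
  haveI : Nonempty V := ⟨⟨x, hx, hi⟩⟩
  have hr0 := (hc i).rank_pos (inf_le_right : V ≤ U (c i).1 (c i).2)
  have hri : r (c i).1 (c i).2 ∣ d.R := by
    have := hdvd i
    rwa [max_eq_left hr0] at this
  obtain ⟨b, hb⟩ := (hc i).exists_mul_eq d.hR hri (inf_le_right : V ≤ U (c i).1 (c i).2)
    (res (g.preimage_mono (inf_le_left : V ≤ W)) a)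
  exact ⟨V, inf_le_left, b, ⟨hx, hi⟩, by rw [hb, hd i V _ inf_le_right]⟩

theorem exists_chart_of_isFinLocFree
    (h : FlatMod.IsFinLocFree ((Coh.push g).obj (Coh.structureModule X'))) (x : X) :
    ∃ (U : X.Opens) (r : ℕ), x ∈ U ∧ IsChart g U r := by
  obtain ⟨U, r, hxU, ⟨e⟩⟩ := h x
  exact ⟨U, r, hxU, isChart_of_iso g e⟩

end Groth.Agent.H11Norm
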