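import Groth.Agent.H11Norm.Restrict
import Groth.Agent.H11Norm.Free
import Groth.Agent.H11Ample.RelPullback

/-!
# Relative ampleness and finite morphisms with norms
-/

set_option autoImplicit false
set_option linter.style.haveILetI false

noncomputable section

universe u

open CategoryTheory CategoryTheory.Limits AlgebraicGeometry Opposite TopologicalSpace
open Groth.Agent.H11Tilde Groth.Agent.H11Ample

namespace Groth.Agent.H11Norm

variable {X X' Y : Scheme.{u}}

theorem isQuasiAffine_of_isAffineHom (g : X' ⟶ X) [IsAffineHom g] : Mor2.IsQuasiAffine g :=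
  ⟨inferInstance, fun V hV => by
    haveI : IsAffine (g ⁻¹ᵁ V).toScheme := hV.preimage g
    infer_instance⟩

/-- Relative ampleness descends along a finite morphism with norms on the preimages of affine opens. -/
theorem isRelAmple_of_normData (f : X ⟶ Y) [QuasiCompact f] (g : X' ⟶ X) [IsFinite g] {L : X.Modules}
    (hL : PicF.IsInvertible L) (h : RelAmple.IsRelAmple (g ≫ f) ((Scheme.Modules.pullback g).obj L))
    (hN : ∀ V : Y.Opens, IsAffineOpen V → ∃ d : NormData g (f ⁻¹ᵁ V), d.Reflects) :
    RelAmple.IsRelAmple f L := by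
  refine isRelAmple_iff.2 ⟨inferInstance, fun V hV => ?_⟩
  obtain ⟨d, hd⟩ := hN V hV
  have h1 := (isRelAmple_iff.1 h).2 V hV
  rw [Scheme.Hom.comp_preimage] at h1
  exact ampleOn_of_normData (f.isCompact_preimage (U := V) hV.isCompact) d hd hL h1

end Groth.Agent.H11Norm
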