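import Groth.Agent.H11Norm.Model
import Groth.Agent.H11Norm.RelDescent

/-!
# Existence of the finite birational model descending ampleness
-/

set_option autoImplicit false
set_option linter.style.haveILetI false

noncomputable section

universe u

open CategoryTheory CategoryTheory.Limits AlgebraicGeometry Opposite TopologicalSpace
open Groth.Agent.H7Lim.Approx

namespace Groth.Agent.H11Norm

variable {X X' : Scheme.{u}}

theorem exists_gens (g : X' ⟶ X) [IsFinite g] (x : X) : ∃ G : Gens g, x ∈ G.V.1 := by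
  classical
  obtain ⟨V, hV, hxV, -⟩ := exists_isAffineOpen_mem_and_subset (U := (⊤ : X.Opens)) (x := x) trivial
  letI := alg g V
  haveI : Module.Finite Γ(X, V) Γ(X', g ⁻¹ᵁ V) := IsFinite.finite_app g V hV
  obtain ⟨m, a, ha⟩ := Module.Finite.exists_fin (R := Γ(X, V)) (M := Γ(X', g ⁻¹ᵁ V))
  refine ⟨⟨⟨V, hV⟩, m, a, fun y => ?_⟩, hxV⟩
  obtain ⟨c, hc⟩ := (Submodule.mem_span_range_iff_exists_fun _).1 (ha.ge (Submodule.mem_top : y ∈ ⊤))
  refine ⟨c, hc.symm.trans (Finset.sum_congr rfl fun j _ => ?_)⟩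
  rw [Algebra.smul_def]
  rfl

/-- The finite birational model (EGA II 6.6.1), with a norm into it. -/
theorem exists_model [IsNoetherian X] [IsReduced X] (g : X' ⟶ X) [IsFinite g] [Surjective g] (O : X.Opens)
    (hO : ∀ x ∈ O, (IsDomain (X.presheaf.stalk x) ∧ IsIntegrallyClosed (X.presheaf.stalk x)) ∨
      ∃ (T : X.Opens) (r : ℕ), x ∈ T ∧ IsChart g T r) :
    ∃ (Z : Scheme.{u}) (_ : IsReduced Z) (h : Z ⟶ X) (_ : IsFinite h), IsIso (h ∣_ O) ∧
      (∃ V : X.Opens, Dense (V : Set X) ∧ Dense ((h ⁻¹ᵁ V : Z.Opens) : Set Z) ∧ IsIso (h ∣_ V)) ∧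
      ∃ d : RelNorm g h, d.Reflects := by
  classical
  obtain ⟨p⟩ := exists_pieces g
  -- the ambient algebra
  have hOc : IsCompact (O : Set X) := NoetherianSpace.isCompact _
  obtain ⟨J₀, hJ₀, hbot, hmem⟩ := p.exists_ambient hOc
  -- finitely many affines with generators
  choose G hG using exists_gens g
  obtain ⟨S, hS⟩ := isCompact_univ.elim_finite_subcover (fun x => ((G x).V.1 : Set X))
    (fun x => (G x).V.1.isOpen) (fun x _ => Set.mem_iUnion.2 ⟨x, hG x⟩)
  have hcoef : ∀ x, ∀ μ ∈ p.expo (G x).V.1 (G x).a, p.coeffSec (G x).V.1 (G x).a μ ∈ J₀.S (G x).V := by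
    intro x μ _
    have hint := p.coeffSec_mem_intRing (G x).V.2 (G x).a μ
    refine hmem _ _ hint fun B hB hBO => p.mem_bot_of_extend B _ fun y hy => ?_
    rcases hO y (hBO hy) with ⟨hd, hn⟩ | ⟨T, r, hyT, hT⟩
    · haveI := hd
      haveI := hn
      obtain ⟨V, hV, c, hyV, hc⟩ := p.exists_extend_normal (Or.inl inferInstance) (p.res_mem_intRing hB hint) hy
      exact ⟨V, hV, c, hyV, hc⟩
    · obtain ⟨c, hc⟩ := p.exists_extend_chart (G x).a μ hT
      refine ⟨B.1 ⊓ T, inf_le_left, res (inf_le_inf_right T hB) c, ⟨hy, hyT⟩, fun i hi => ?_⟩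
      rw [p.ev_res i hB hi.1, hc i ⟨hB hi.1, hi.2⟩, TopCat.Presheaf.germ_res_apply]
  -- a finite type subalgebra containing them
  have hJ : ∀ S' : Finset X, ∃ J : Sub p.D.ι, J ≤ J₀ ∧ (∀ A, J.FGAt A) ∧
      ∀ x ∈ S', ∀ μ ∈ p.expo (G x).V.1 (G x).a, p.coeffSec (G x).V.1 (G x).a μ ∈ J.S (G x).V := by
    intro S'
    induction S' using Finset.induction with
    | empty =>
      exact ⟨Sub.bot p.D.ι, fun A => by rintro _ ⟨s, rfl⟩; exact J₀.app_mem A s, Sub.bot_fgAt,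
        fun x hx => absurd hx (Finset.notMem_empty x)⟩
    | @insert x S' _ ih =>
      obtain ⟨J, hJle, hJfg, hJmem⟩ := ih
      obtain ⟨K, hKle, hKfg, hKmem⟩ := J₀.exists_fg_le (G x).V
        ((p.expo (G x).V.1 (G x).a).image (p.coeffSec (G x).V.1 (G x).a)) (by
          intro b hb
          obtain ⟨μ, hμ, rfl⟩ := Finset.mem_image.1 hb
          exact hcoef x μ hμ)
      refine ⟨J.sup K, fun A => sup_le (hJle A) (hKle A), fun A => Sub.sup_fgAt (hJfg A) (hKfg A),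
        fun y hy μ hμ => ?_⟩
      rcases Finset.mem_insert.1 hy with rfl | hy
      · exact Sub.le_sup_right' J K _ (hKmem (Finset.mem_image_of_mem _ hμ))
      · exact Sub.le_sup_left' J K _ (hJmem y hy μ hμ)
  obtain ⟨J, hJle, hJfg, hJmem⟩ := hJ S
  obtain ⟨Z, h, e, hspec⟩ := J.exists_isSpec
  haveI := hspec.isAffineHom
  haveI : IsIntegralHom h := p.isIntegralHom_of_le hspec (hJle.trans hJ₀)
  haveI : LocallyOfFiniteType h := hspec.locallyOfFiniteType hJfg
  haveI hfin : IsFinite h := (IsFinite.iff_isIntegralHom_and_locallyOfFiniteType h).2 ⟨‹_›, ‹_›⟩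
  have hD : ∀ B : X.Opens, IsAffineOpen B → Function.Injective (h.app B) := by
    intro B hB s t hst
    refine sub_eq_zero.1 (eq_of_dense p.dense ?_)
    refine Eq.trans ?_ (map_zero _).symm
    refine TopCat.Presheaf.section_ext X.sheaf _ _ _ fun y hy => ?_
    obtain ⟨i, hi⟩ := Opens.mem_iSup.1 hy.2
    have hη : p.η i ∈ B ⊓ p.W i := (p.generic i).2 _ inf_le_right y ⟨hy.1, hi⟩
    have h0 : res (inf_le_left : B ⊓ p.W i ≤ B) (s - t) = 0 := by
      refine (p.generic i).eq_zero inf_le_right hη ?_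
      refine (TopCat.Presheaf.germ_res_apply X.presheaf _ _ hη _).trans ?_
      have := congrArg (p.ez hspec.fac i B hη.1) hst
      rw [p.ez_app hspec.fac, p.ez_app hspec.fac] at this
      rw [map_sub, sub_eq_zero]
      exact this
    have h1 := congrArg (X.presheaf.germ (B ⊓ p.W i) y ⟨hy.1, hi⟩) h0
    rw [TopCat.Presheaf.germ_res_apply, map_zero] at h1
    refine Eq.trans ?_ (map_zero _).symm
    exact (TopCat.Presheaf.germ_res_apply X.presheaf (homOfLE (inf_le_left : B ⊓ (⨆ i, p.W i) ≤ B)) y hy _).trans h1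
  have hiso : ∀ P : X.Opens, (∀ B : X.affineOpens, B.1 ≤ P → J.S B ≤ (Sub.bot p.D.ι).S B) → IsIso (h ∣_ P) := by
    intro P hP
    refine isIso_morphismRestrict_of_app h P fun B hB hBP => ⟨hD B hB, fun z => ?_⟩
    obtain ⟨s, hs⟩ := hP ⟨B, hB⟩ hBP ((hspec.range_eq ⟨B, hB⟩).le ⟨z, rfl⟩)
    refine ⟨s, hspec.injective ⟨B, hB⟩ (Eq.trans ?_ hs)⟩
    rw [← CommRingCat.comp_apply, Scheme.Hom.app_eq_appLE, Scheme.Hom.appLE_comp_appLE]
    simp only [hspec.fac, ← Scheme.Hom.app_eq_appLE]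
  refine ⟨Z, p.isReduced_spec hspec, h, hfin, hiso O fun B hB => (hJle B).trans (hbot B hB),
    ⟨p.D, p.dense, p.dense_preimage hspec, hiso p.D fun B hB x _ => ?_⟩, ?_⟩
  · -- over the pieces there is nothing to add
    have hle : B.1 ≤ p.D.ι ''ᵁ (p.D.ι ⁻¹ᵁ B.1) := fun y hy => by rw [p.img_eq]; exact ⟨hB hy, hy⟩
    refine p.mem_bot_of_extend B x fun y hy => ⟨B.1, le_rfl,
      res hle (show Γ(X, p.D.ι ''ᵁ (p.D.ι ⁻¹ᵁ B.1)) from x), hy, fun i hi => ?_⟩
    exact (TopCat.Presheaf.germ_res_apply X.presheaf (homOfLE hle) _ hi _).symm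
  · have hκ : ∀ x : X, ∃ k : Fin S.card, x ∈ (G (S.equivFin.symm k).1).V.1 := fun x => by
      obtain ⟨y, hy, hxy⟩ := Set.mem_iUnion₂.1 (hS (Set.mem_univ x))
      exact ⟨S.equivFin ⟨y, hy⟩, by rw [Equiv.symm_apply_apply]; exact hxy⟩
    exact p.exists_relNorm hspec (fun k : Fin S.card => G (S.equivFin.symm k).1) hκ
      fun k => hJmem _ (S.equivFin.symm k).2

end Groth.Agent.H11Norm
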