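import Groth.Agent.H11Norm.Basic

/-!
# Norms with values in an affine modification of the base
-/

set_option autoImplicit false
set_option linter.style.haveILetI false

noncomputable section

universe u

open CategoryTheory CategoryTheory.Limits AlgebraicGeometry Opposite TopologicalSpace
open Groth.Agent.H11Tilde Groth.Agent.H11Ample

namespace Groth.Agent.H11Norm

variable {X X' Z : Scheme.{u}}

/-- A norm for `g : X' ⟶ X` with values in `Z` over `X`. -/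
structure RelNorm (g : X' ⟶ X) (h : Z ⟶ X) where
  R : ℕ
  hR : 0 < R
  N : ∀ U : X.Opens, Γ(X', g ⁻¹ᵁ U) → Γ(Z, h ⁻¹ᵁ U)
  map_one : ∀ U : X.Opens, N U 1 = 1
  map_mul : ∀ (U : X.Opens) (a b : Γ(X', g ⁻¹ᵁ U)), N U (a * b) = N U a * N U b
  natural : ∀ (U V : X.Opens) (h' : V ≤ U) (a : Γ(X', g ⁻¹ᵁ U)),
    res (h.preimage_mono h') (N U a) = N V (res (g.preimage_mono h') a)
  map_app : ∀ (U : X.Opens) (c : Γ(X, U)), N U (g.app U c) = h.app U c ^ R

variable {g : X' ⟶ X} {h : Z ⟶ X}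

/-- A relative norm reflects units. -/
def RelNorm.Reflects (d : RelNorm g h) : Prop :=
  ∀ (U : X.Opens) (a : Γ(X', g ⁻¹ᵁ U)) (ζ : Z), ζ ∈ Z.basicOpen (d.N U a) →
    ∃ z : X', g z = h ζ ∧ z ∈ X'.basicOpen a

theorem RelNorm.mem_basicOpen [IsFinite g] (d : RelNorm g h) {U : X.Opens} (a : Γ(X', g ⁻¹ᵁ U)) {ζ : Z}
    (hζ : ζ ∈ h ⁻¹ᵁ U) (ha : ∀ z : X', g z = h ζ → z ∈ X'.basicOpen a) : ζ ∈ Z.basicOpen (d.N U a) := by
  let C : Set X := g '' ((X'.basicOpen a : Set X')ᶜ)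
  have hC : IsClosed C := g.isClosedMap _ (X'.basicOpen a).isOpen.isClosed_compl
  let V : X.Opens := U ⊓ ⟨Cᶜ, hC.isOpen_compl⟩
  have hζV : ζ ∈ h ⁻¹ᵁ V := ⟨hζ, fun ⟨z, hz, hzx⟩ => hz (ha z hzx)⟩
  have hle : g ⁻¹ᵁ V ≤ X'.basicOpen a := fun z hz => by
    by_contra hn
    exact hz.2 ⟨z, hn, rfl⟩
  obtain ⟨w, hw⟩ := isUnit_res_of_le (g.preimage_mono (inf_le_left : V ≤ U)) a hle
  have h1 : IsUnit (res (h.preimage_mono (inf_le_left : V ≤ U)) (d.N U a)) := by
    rw [d.natural U V inf_le_left]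
    refine IsUnit.of_mul_eq_one (d.N V (↑w⁻¹)) ?_
    rw [← d.map_mul, ← hw, Units.mul_inv, d.map_one]
  have h2 := Scheme.basicOpen_of_isUnit Z h1
  rw [Scheme.basicOpen_res] at h2
  exact (h2.ge hζV).2

/-- The norm of a section of the pullback of an invertible module. -/
theorem exists_relNorm_section [IsFinite g] (d : RelNorm g h) (hd : d.Reflects) {M : X.Modules}
    (hM : PicF.IsInvertible M) (s : Γ((Scheme.Modules.pullback g).obj M, ⊤)) :
    ∃ t : Γ(CohB1.tensorPow ((Scheme.Modules.pullback h).obj M) d.R, ⊤),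
      (∀ ζ : Z, (∀ z : X', g z = h ζ → z ∈ gen _ s) → ζ ∈ gen _ t) ∧
      ∀ ζ ∈ gen _ t, ∃ z : X', g z = h ζ ∧ z ∈ gen _ s := by
  classical
  choose V e hxV he using exists_gen hM
  have hp : ∀ x, IsGen ((Scheme.Modules.pullback g).obj M) (OmegaSh.pullSect g M (V x) (e x)) :=
    fun x => IsGen.pullSect g (he x)
  have hq : ∀ x, IsGen ((Scheme.Modules.pullback h).obj M) (OmegaSh.pullSect h M (V x) (e x)) :=
    fun x => IsGen.pullSect h (he x)
  choose a ha using fun x => exists_coeff (hp x)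
    (((Scheme.Modules.pullback g).obj M).presheaf.map (homOfLE (le_top : g ⁻¹ᵁ V x ≤ ⊤)).op s)
  let P := CohB1.tensorPow ((Scheme.Modules.pullback h).obj M) d.R
  let T : ∀ x, Γ(P, h ⁻¹ᵁ V x) := fun x => d.N (V x) (a x) • spow (OmegaSh.pullSect h M (V x) (e x)) d.R
  have compat : ∀ x y, P.presheaf.map
      (homOfLE (inf_le_left : h ⁻¹ᵁ V x ⊓ h ⁻¹ᵁ V y ≤ h ⁻¹ᵁ V x)).op (T x) =
      P.presheaf.map (homOfLE (inf_le_right : h ⁻¹ᵁ V x ⊓ h ⁻¹ᵁ V y ≤ h ⁻¹ᵁ V y)).op (T y) := by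
    intro x y
    let W := V x ⊓ V y
    obtain ⟨c, hc⟩ := exists_coeff ((he y).res (inf_le_right : W ≤ V y))
      (M.presheaf.map (homOfLE (inf_le_left : W ≤ V x)).op (e x))
    have key : res (g.preimage_mono (inf_le_left : W ≤ V x)) (a x) * g.app W c =
        res (g.preimage_mono (inf_le_right : W ≤ V y)) (a y) := by
      have h0 := congrArg (OmegaSh.pullSect g M W) hc
      rw [OmegaSh.pullSect_smul, pullSect_res, pullSect_res] at h0
      have hx := congrArg (((Scheme.Modules.pullback g).obj M).presheaf.map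
        (homOfLE (g.preimage_mono (inf_le_left : W ≤ V x))).op) (ha x)
      have hy := congrArg (((Scheme.Modules.pullback g).obj M).presheaf.map
        (homOfLE (g.preimage_mono (inf_le_right : W ≤ V y))).op) (ha y)
      rw [Scheme.Modules.map_smul, H10Coh.mres_mres] at hx hy
      refine (((hp y).res (g.preimage_mono (inf_le_right : W ≤ V y))).bijective le_rfl).1 ?_
      beta_reduce
      rw [H10Coh.mres_self, mul_smul, ← h0]
      exact hx.symm.trans hy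
    have hc' := congrArg (OmegaSh.pullSect h M W) hc
    rw [OmegaSh.pullSect_smul, pullSect_res, pullSect_res] at hc'
    change P.presheaf.map (homOfLE (h.preimage_mono (inf_le_left : W ≤ V x))).op (T x) =
      P.presheaf.map (homOfLE (h.preimage_mono (inf_le_right : W ≤ V y))).op (T y)
    rw [Scheme.Modules.map_smul, Scheme.Modules.map_smul, spow_res, spow_res, hc', spow_smul, smul_smul]
    refine congrArg (· • _) ?_
    change res (h.preimage_mono (inf_le_left : W ≤ V x)) (d.N _ _) * _ =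
      res (h.preimage_mono (inf_le_right : W ≤ V y)) (d.N _ _)
    rw [d.natural _ W inf_le_left, d.natural _ W inf_le_right, ← d.map_app W c, ← d.map_mul, key]
  obtain ⟨t, ht, -⟩ := TopCat.Sheaf.existsUnique_gluing' (H10Coh.sheafOf P) (fun x => h ⁻¹ᵁ V x) ⊤
    (fun x => homOfLE le_top) (fun ζ _ => Opens.mem_iSup.2 ⟨h ζ, hxV (h ζ)⟩) T compat
  have hgt : ∀ x, gen P t ⊓ h ⁻¹ᵁ V x = Z.basicOpen (d.N (V x) (a x)) :=
    fun x => gen_inf_eq_basicOpen (isGen_spow (hq x) d.R) t _ (ht x)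
  have hgs : ∀ x, gen _ s ⊓ g ⁻¹ᵁ V x = X'.basicOpen (a x) :=
    fun x => gen_inf_eq_basicOpen (hp x) s _ (ha x)
  refine ⟨t, fun ζ hζ => ?_, fun ζ hζ => ?_⟩
  · refine ((hgt (h ζ)).ge (d.mem_basicOpen _ (hxV (h ζ)) fun z hz => (hgs (h ζ)).le ⟨hζ z hz, ?_⟩)).1
    change g z ∈ V (h ζ)
    rw [hz]
    exact hxV (h ζ)
  · obtain ⟨z, hz, hzs⟩ := hd (V (h ζ)) (a (h ζ)) ζ ((hgt (h ζ)).le ⟨hζ, hxV (h ζ)⟩)
    exact ⟨z, hz, ((hgs (h ζ)).ge hzs).1⟩

theorem exists_iso_tensorPow_of_iso {M N : Z.Modules} (φ : M ≅ N) (hM : PicF.IsInvertible M)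
    (n : ℕ) : Nonempty (CohB1.tensorPow M n ≅ CohB1.tensorPow N n) := by
  let J := {p : Σ V : Z.Opens, Γ(M, V) // IsGen M p.2 ∧ IsGen N (φ.hom.app p.1 p.2)}
  obtain ⟨ψ, -⟩ := exists_iso_of_gen (P := CohB1.tensorPow M n) (Q := CohB1.tensorPow N n) (J := J)
    (fun j => j.1.1) (fun x => by
      obtain ⟨V, e, hx, he⟩ := exists_gen hM x
      exact ⟨⟨⟨V, e⟩, he, isGen_map_iso φ he⟩, hx⟩)
    (fun j => spow j.1.2 n) (fun j => isGen_spow j.2.1 n)
    (fun j => spow (φ.hom.app j.1.1 j.1.2) n) (fun j => isGen_spow j.2.2 n) (fun i j u hu => by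
      obtain ⟨c, hc⟩ := exists_coeff (j.2.1.res (inf_le_right : i.1.1 ⊓ j.1.1 ≤ j.1.1))
        (M.presheaf.map (homOfLE (inf_le_left : i.1.1 ⊓ j.1.1 ≤ i.1.1)).op i.1.2)
      rw [spow_res, spow_res, hc, spow_smul] at hu
      have hcu : c ^ n = u := ((isGen_spow (j.2.1.res (inf_le_right : i.1.1 ⊓ j.1.1 ≤ j.1.1)) n).bijective le_rfl).1
        (by beta_reduce; rw [H10Coh.mres_self]; exact hu)
      have hc' := congrArg (φ.hom.app (i.1.1 ⊓ j.1.1)) hc
      rw [H11Tilde.app_map_apply, Scheme.Modules.Hom.app_smul, H11Tilde.app_map_apply] at hc'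
      rw [spow_res, spow_res, hc', spow_smul, hcu])
  exact ⟨ψ⟩

/-- Ampleness descends along a finite morphism with a relative norm. -/
theorem isAmple_of_relNorm [IsFinite g] [IsAffineHom h] [CompactSpace Z] (d : RelNorm g h) (hd : d.Reflects)
    {L : X.Modules} (hL : PicF.IsInvertible L) (hA : CohB1.IsAmple ((Scheme.Modules.pullback g).obj L)) :
    CohB1.IsAmple ((Scheme.Modules.pullback h).obj L) := by
  haveI : CompactSpace X' := compactSpace_of_isAmple hA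
  haveI : QuasiSeparatedSpace X' := quasiSeparatedSpace_of_isAmple hA
  have hL' : PicF.IsInvertible ((Scheme.Modules.pullback h).obj L) := isInvertible_pullback h hL
  refine isAmple_of_gen_isQuasiAffine hL' fun ζ => ?_
  obtain ⟨V, e, hxV, he⟩ := exists_gen hL (h ζ)
  obtain ⟨U, hU, hxU, hUV⟩ := exists_isAffineOpen_mem_and_subset (U := V) hxV
  have hfin : (g ⁻¹' {h ζ}).Finite := g.finite_preimage_singleton (h ζ)
  obtain ⟨k, s, hk, hZs, hsU, -⟩ := exists_affine_gen_nhd_finite hA hfin (U := g ⁻¹ᵁ U)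
    (fun z (hz : g z = h ζ) => show g z ∈ U by rw [hz]; exact hxU)
  obtain ⟨φ⟩ := exists_iso_pullback_tensorPow g hL k
  obtain ⟨t, ht1, ht2⟩ := exists_relNorm_section d hd (isInvertible_tensorPow hL k) (φ.inv.app ⊤ s)
  rw [gen_iso] at ht1 ht2
  obtain ⟨φ'⟩ := exists_iso_pullback_tensorPow h hL k
  obtain ⟨χ⟩ := exists_iso_tensorPow_of_iso φ' (isInvertible_pullback h (isInvertible_tensorPow hL k)) d.R
  obtain ⟨ψ, -⟩ := exists_iso_mul hL' k d.R
  have hgen : gen _ ((χ ≪≫ ψ).hom.app ⊤ t) = gen _ t := gen_iso (χ ≪≫ ψ).hom t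
  refine ⟨k * d.R, (χ ≪≫ ψ).hom.app ⊤ t, Nat.mul_pos hk d.hR,
    by rw [hgen]; exact ht1 ζ fun z hz => hZs hz, ?_⟩
  have hle : gen _ ((χ ≪≫ ψ).hom.app ⊤ t) ≤ h ⁻¹ᵁ U := by
    rw [hgen]
    intro y hy
    obtain ⟨z, hzy, hz⟩ := ht2 y hy
    change h y ∈ U
    rw [← hzy]
    exact hsU hz
  have haff := isAffineOpen_gen_inf (hU.preimage h)
    (isGen_spow (IsGen.pullSect h (he.res (show U ≤ V from hUV))) (k * d.R)) ((χ ≪≫ ψ).hom.app ⊤ t)
  rw [inf_eq_left.2 hle] at haff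
  haveI : IsAffine (gen _ ((χ ≪≫ ψ).hom.app ⊤ t)).toScheme := haff
  infer_instance

end Groth.Agent.H11Norm
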