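import Groth.Agent.H11Ample.RelAmple
import Groth.Agent.H11Ample.QuasiAffine
import Groth.Agent.H11Ample.Converse
import Groth.Agent.H11Ample.ToPn
import Groth.Agent.H10Coh.Local
import Mathlib.AlgebraicGeometry.Morphisms.Finite

/-!
# Norms of sections along finite morphisms and descent of ampleness

A norm for `g : X' ⟶ X` on an open `D` is a natural multiplicative map `Γ(X', g⁻¹U) → Γ(X, U)`, `U ≤ D`,
sending the image of `c` to `c ^ R` for a fixed positive `R` (EGA II 6.5.1).
-/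

set_option autoImplicit false
set_option linter.style.haveILetI false

noncomputable section

universe u

open CategoryTheory CategoryTheory.Limits AlgebraicGeometry Opposite TopologicalSpace
open Groth.Agent.H11Tilde Groth.Agent.H11Ample

namespace Groth.Agent.H11Norm

variable {X X' : Scheme.{u}}

/-- Restriction of functions. -/
abbrev res {U V : X.Opens} (h : V ≤ U) (a : Γ(X, U)) : Γ(X, V) := X.presheaf.map (homOfLE h).op a

/-- A norm for `g` on `D`. -/
structure NormData (g : X' ⟶ X) (D : X.Opens) where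
  R : ℕ
  hR : 0 < R
  N : ∀ U : X.Opens, U ≤ D → Γ(X', g ⁻¹ᵁ U) → Γ(X, U)
  map_one : ∀ (U : X.Opens) (h : U ≤ D), N U h 1 = 1
  map_mul : ∀ (U : X.Opens) (h : U ≤ D) (a b : Γ(X', g ⁻¹ᵁ U)), N U h (a * b) = N U h a * N U h b
  natural : ∀ (U V : X.Opens) (h : U ≤ D) (h' : V ≤ U) (a : Γ(X', g ⁻¹ᵁ U)),
    res h' (N U h a) = N V (h'.trans h) (res (g.preimage_mono h') a)
  map_app : ∀ (U : X.Opens) (h : U ≤ D) (c : Γ(X, U)), N U h (g.app U c) = c ^ R

/-- A norm reflects units: where the norm is invertible, so is the section somewhere in the fibre. -/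
def NormData.Reflects {g : X' ⟶ X} {D : X.Opens} (d : NormData g D) : Prop :=
  ∀ (U : X.Opens) (h : U ≤ D) (a : Γ(X', g ⁻¹ᵁ U)) (x : X), x ∈ X.basicOpen (d.N U h a) →
    ∃ z : X', g z = x ∧ z ∈ X'.basicOpen a

theorem isUnit_res_of_le {U V : X.Opens} (h : V ≤ U) (a : Γ(X, U)) (h' : V ≤ X.basicOpen a) :
    IsUnit (res h a) := by
  have e : (X.presheaf.map (homOfLE h').op).hom (X.presheaf.map (homOfLE (X.basicOpen_le a)).op a) = res h a :=
    H10Coh.rres_rres _ _ _
  exact e ▸ (X.toRingedSpace.isUnit_res_basicOpen a).map (X.presheaf.map (homOfLE h').op).hom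

/-- Where a section is invertible on the whole fibre, its norm is invertible. -/
theorem NormData.mem_basicOpen {g : X' ⟶ X} [IsFinite g] {D : X.Opens} (d : NormData g D) {U : X.Opens}
    (h : U ≤ D) (a : Γ(X', g ⁻¹ᵁ U)) {x : X} (hx : x ∈ U) (ha : ∀ z : X', g z = x → z ∈ X'.basicOpen a) :
    x ∈ X.basicOpen (d.N U h a) := by
  let C : Set X := g '' ((X'.basicOpen a : Set X')ᶜ)
  have hC : IsClosed C := g.isClosedMap _ (X'.basicOpen a).isOpen.isClosed_compl
  let V : X.Opens := U ⊓ ⟨Cᶜ, hC.isOpen_compl⟩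
  have hxV : x ∈ V := ⟨hx, fun ⟨z, hz, hzx⟩ => hz (ha z hzx)⟩
  have hle : g ⁻¹ᵁ V ≤ X'.basicOpen a := fun z hz => by
    by_contra hn
    exact hz.2 ⟨z, hn, rfl⟩
  obtain ⟨w, hw⟩ := isUnit_res_of_le (g.preimage_mono (inf_le_left : V ≤ U)) a hle
  have h1 : IsUnit (res (inf_le_left : V ≤ U) (d.N U h a)) := by
    rw [d.natural]
    refine IsUnit.of_mul_eq_one (d.N V (inf_le_left.trans h) (↑w⁻¹)) ?_
    rw [← d.map_mul, ← hw, Units.mul_inv, d.map_one]
  have h2 := Scheme.basicOpen_of_isUnit X h1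
  rw [Scheme.basicOpen_res] at h2
  exact (h2.ge hxV).2

/-- The norm of a section of the pullback of an invertible module. -/
theorem exists_norm_section {g : X' ⟶ X} [IsFinite g] (d : NormData g ⊤) (hd : d.Reflects) {M : X.Modules}
    (hM : PicF.IsInvertible M) (s : Γ((Scheme.Modules.pullback g).obj M, ⊤)) :
    ∃ t : Γ(CohB1.tensorPow M d.R, ⊤),
      (∀ x : X, (∀ z : X', g z = x → z ∈ gen _ s) → x ∈ gen _ t) ∧
      ∀ x ∈ gen _ t, ∃ z : X', g z = x ∧ z ∈ gen _ s := by
  classical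
  choose V e hxV he using exists_gen hM
  have hp : ∀ x, IsGen ((Scheme.Modules.pullback g).obj M) (OmegaSh.pullSect g M (V x) (e x)) :=
    fun x => IsGen.pullSect g (he x)
  choose a ha using fun x => exists_coeff (hp x)
    (((Scheme.Modules.pullback g).obj M).presheaf.map (homOfLE (le_top : g ⁻¹ᵁ V x ≤ ⊤)).op s)
  let P := CohB1.tensorPow M d.R
  let T : ∀ x, Γ(P, V x) := fun x => d.N (V x) le_top (a x) • spow (e x) d.R
  have compat : ∀ x y, P.presheaf.map (homOfLE (inf_le_left : V x ⊓ V y ≤ V x)).op (T x) =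
      P.presheaf.map (homOfLE (inf_le_right : V x ⊓ V y ≤ V y)).op (T y) := by
    intro x y
    let W := V x ⊓ V y
    obtain ⟨c, hc⟩ := exists_coeff ((he y).res (inf_le_right : W ≤ V y))
      (M.presheaf.map (homOfLE (inf_le_left : W ≤ V x)).op (e x))
    have key : res (g.preimage_mono (inf_le_left : W ≤ V x)) (a x) * g.app W c =
        res (g.preimage_mono (inf_le_right : W ≤ V y)) (a y) := by
      have h0 := congrArg (OmegaSh.pullSect g M W) hc
      rw [OmegaSh.pullSect_smul, pullSect_res, pullSect_res] at h0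
      have hx := congrArg (((Scheme.Modules.pullback g).obj M).presheaf.map
        (homOfLE (g.preimage_mono (inf_le_left : W ≤ V x))).op) (ha x)
      have hy := congrArg (((Scheme.Modules.pullback g).obj M).presheaf.map
        (homOfLE (g.preimage_mono (inf_le_right : W ≤ V y))).op) (ha y)
      rw [Scheme.Modules.map_smul, H10Coh.mres_mres] at hx hy
      refine (((hp y).res (g.preimage_mono (inf_le_right : W ≤ V y))).bijective le_rfl).1 ?_
      beta_reduce
      rw [H10Coh.mres_self, mul_smul, ← h0]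
      exact hx.symm.trans hy
    rw [Scheme.Modules.map_smul, Scheme.Modules.map_smul, spow_res, spow_res, hc, spow_smul, smul_smul]
    refine congrArg (· • _) ?_
    change res _ (d.N _ _ _) * _ = res _ (d.N _ _ _)
    rw [d.natural, d.natural, ← d.map_app W le_top c, ← d.map_mul, key]
  obtain ⟨t, ht, -⟩ := TopCat.Sheaf.existsUnique_gluing' (H10Coh.sheafOf P) V ⊤ (fun x => homOfLE le_top)
    (fun x _ => Opens.mem_iSup.2 ⟨x, hxV x⟩) T compat
  have hgt : ∀ x, gen P t ⊓ V x = X.basicOpen (d.N (V x) le_top (a x)) :=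
    fun x => gen_inf_eq_basicOpen (isGen_spow (he x) d.R) t _ (ht x)
  have hgs : ∀ x, gen _ s ⊓ g ⁻¹ᵁ V x = X'.basicOpen (a x) :=
    fun x => gen_inf_eq_basicOpen (hp x) s _ (ha x)
  refine ⟨t, fun x hx => ?_, fun x hx => ?_⟩
  · refine ((hgt x).ge (d.mem_basicOpen _ _ (hxV x) fun z hz => (hgs x).le ⟨hx z hz, ?_⟩)).1
    change g z ∈ V x
    rw [hz]
    exact hxV x
  · obtain ⟨z, hz, hzs⟩ := hd (V x) le_top (a x) x ((hgt x).le ⟨hx, hxV x⟩)
    exact ⟨z, hz, ((hgs x).ge hzs).1⟩

/-- Ampleness descends along a finite morphism with a norm reflecting units. -/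
theorem isAmple_of_normData [CompactSpace X] (g : X' ⟶ X) [IsFinite g] (d : NormData g ⊤) (hd : d.Reflects)
    {L : X.Modules} (hL : PicF.IsInvertible L) (hA : CohB1.IsAmple ((Scheme.Modules.pullback g).obj L)) :
    CohB1.IsAmple L := by
  haveI : CompactSpace X' := compactSpace_of_isAmple hA
  haveI : QuasiSeparatedSpace X' := quasiSeparatedSpace_of_isAmple hA
  refine isAmple_of_gen_isQuasiAffine hL fun x => ?_
  obtain ⟨V, e, hxV, he⟩ := exists_gen hL x
  obtain ⟨U, hU, hxU, hUV⟩ := exists_isAffineOpen_mem_and_subset (U := V) hxV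
  have hfin : (g ⁻¹' {x}).Finite := g.finite_preimage_singleton x
  obtain ⟨k, s, hk, hZs, hsU, -⟩ := exists_affine_gen_nhd_finite hA hfin (U := g ⁻¹ᵁ U)
    (fun z (hz : g z = x) => show g z ∈ U by rw [hz]; exact hxU)
  obtain ⟨φ⟩ := exists_iso_pullback_tensorPow g hL k
  obtain ⟨t, ht1, ht2⟩ := exists_norm_section d hd (isInvertible_tensorPow hL k) (φ.inv.app ⊤ s)
  rw [gen_iso] at ht1 ht2
  obtain ⟨ψ, -⟩ := exists_iso_mul hL k d.R
  have hgen : gen _ (ψ.hom.app ⊤ t) = gen _ t := gen_iso ψ.hom t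
  refine ⟨k * d.R, ψ.hom.app ⊤ t, Nat.mul_pos hk d.hR, by rw [hgen]; exact ht1 x fun z hz => hZs hz, ?_⟩
  have hle : gen _ (ψ.hom.app ⊤ t) ≤ U := by
    rw [hgen]
    intro y hy
    obtain ⟨z, rfl, hz⟩ := ht2 y hy
    exact hsU hz
  have haff := isAffineOpen_gen_inf hU (isGen_spow (he.res (show U ≤ V from hUV)) (k * d.R)) (ψ.hom.app ⊤ t)
  rw [inf_eq_left.2 hle] at haff
  haveI : IsAffine (gen _ (ψ.hom.app ⊤ t)).toScheme := haff
  infer_instance

end Groth.Agent.H11Norm
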