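import Mathlib

/-!
# Integrality of the coefficients of the generic characteristic polynomial of a stable lattice
-/

set_option autoImplicit false
set_option linter.style.haveILetI false
universe u

open Matrix

namespace Groth.Agent.H11Norm

variable {L : Type u} [Field L] {r : ℕ} {τ : Type u} [Fintype τ]

/-- The characteristic polynomial of the generic combination of finitely many matrices. -/
noncomputable def genCharpoly {R : Type u} [CommRing R] (M : τ → Matrix (Fin r) (Fin r) R) :
    Polynomial (MvPolynomial τ R) :=
  (∑ t, (MvPolynomial.X t : MvPolynomial τ R) • (M t).map MvPolynomial.C).charpoly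

theorem genCharpoly_map {R S : Type u} [CommRing R] [CommRing S] (φ : R →+* S)
    (M : τ → Matrix (Fin r) (Fin r) R) :
    genCharpoly (fun t => (M t).map φ) = (genCharpoly M).map (MvPolynomial.map φ) := by
  rw [genCharpoly, genCharpoly, ← Matrix.charpoly_map]
  congr 1
  ext i j
  simp [Matrix.sum_apply, Matrix.map_apply]

theorem eval_genCharpoly {R : Type u} [CommRing R] (M : τ → Matrix (Fin r) (Fin r) R) (a : τ → R) :
    (genCharpoly M).map (MvPolynomial.eval a) = (∑ t, a t • M t).charpoly := by
  rw [genCharpoly, ← Matrix.charpoly_map]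
  congr 1
  ext i j
  simp [Matrix.sum_apply, Matrix.map_apply]

/-- Matrices preserving a lattice over a valuation ring have generic characteristic polynomial
over that ring. -/
theorem coeff_genCharpoly_mem (O : ValuationSubring L) {s : Type u} [Finite s] (g : s → (Fin r → L))
    (hspan : Submodule.span L (Set.range g) = ⊤) (M : τ → Matrix (Fin r) (Fin r) L)
    (hM : ∀ t i, M t *ᵥ g i ∈ Submodule.span O (Set.range g)) (j : ℕ) (d : τ →₀ ℕ) :
    MvPolynomial.coeff d ((genCharpoly M).coeff j) ∈ O := by
  classical
  let Λ := Submodule.span O (Set.range g)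
  haveI : Module.Finite O Λ := Module.Finite.span_of_finite O (Set.finite_range g)
  haveI : Module.Flat O Λ := by
    rw [Module.Flat.flat_iff_torsion_eq_bot_of_isBezout, eq_bot_iff]
    rintro ⟨x, hx⟩ ⟨⟨c, hc⟩, h⟩
    have h' : (c : L) • x = 0 := congrArg Subtype.val h
    have hc' : (c : L) ≠ 0 := fun e => nonZeroDivisors.ne_zero hc (Subtype.ext e)
    exact Subtype.ext ((smul_eq_zero.1 h').resolve_left hc')
  haveI : Module.Free O Λ := Module.free_of_flat_of_isLocalRing
  let β := Module.Free.chooseBasis O Λ
  let v : Module.Free.ChooseBasisIndex O Λ → (Fin r → L) := fun i => (β i).1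
  have hli : LinearIndependent L v :=
    (LinearIndependent.iff_fractionRing O L).1
      (β.linearIndependent.map' Λ.subtype (Submodule.ker_subtype _))
  have hsp : ⊤ ≤ Submodule.span L (Set.range v) := by
    rw [← hspan, Submodule.span_le]
    rintro _ ⟨i, rfl⟩
    have h1 : (⟨g i, Submodule.subset_span ⟨i, rfl⟩⟩ : Λ) ∈ Submodule.span O (Set.range β) := by
      rw [β.span_eq]; trivial
    have h2 := Submodule.mem_map_of_mem (f := Λ.subtype) h1
    rw [Submodule.map_span, ← Set.range_comp] at h2
    exact Submodule.span_subset_span O L _ h2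
  let bL := Module.Basis.mk hli hsp
  let e : Module.Free.ChooseBasisIndex O Λ ≃ Fin r := bL.indexEquiv (Pi.basisFun L (Fin r))
  let b := bL.reindex e
  have hb : ∀ i, b i = (β (e.symm i)).1 := fun i => by
    simp [b, bL, v]
  -- the matrices in the new basis
  have hstab : ∀ t i, M t *ᵥ b i ∈ Λ := by
    intro t i
    rw [hb]
    suffices ∀ x ∈ Λ, M t *ᵥ x ∈ Λ from this _ (β (e.symm i)).2
    intro x hx
    induction hx using Submodule.span_induction with
    | mem x hx => obtain ⟨l, rfl⟩ := hx; exact hM t l
    | zero => simp
    | add x y _ _ hx hy => rw [Matrix.mulVec_add]; exact add_mem hx hy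
    | smul c x _ hx =>
      rw [show c • x = (c : L) • x from rfl, Matrix.mulVec_smul]
      exact Submodule.smul_mem _ c hx
  let N : τ → Matrix (Fin r) (Fin r) O := fun t l i => (β.reindex e).repr ⟨M t *ᵥ b i, hstab t i⟩ l
  let P : Matrix (Fin r) (Fin r) L := Matrix.of fun l i => b i l
  have hP : M = fun t => M t := rfl
  have hMP : ∀ t, M t * P = P * (N t).map O.subtype := by
    intro t
    ext l i
    have h := congrArg (fun x : Λ => (x : Fin r → L) l)
      ((β.reindex e).sum_repr ⟨M t *ᵥ b i, hstab t i⟩)
    simp only [AddSubmonoidClass.coe_finsetSum, Finset.sum_apply, Submodule.coe_smul] at h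
    rw [Matrix.mul_apply, Matrix.mul_apply]
    refine Eq.trans ?_ (Eq.trans h.symm ?_)
    · rfl
    · refine Finset.sum_congr rfl fun m _ => ?_
      simp [P, N, hb]
      exact mul_comm _ _
  have hPu : IsUnit P := by
    have : P = (Pi.basisFun L (Fin r)).toMatrix b := by
      ext l i; simp [P, Module.Basis.toMatrix_apply]
    rw [this]
    haveI := (Pi.basisFun L (Fin r)).invertibleToMatrix b
    exact isUnit_of_invertible _
  have key : genCharpoly M = genCharpoly (fun t => (N t).map O.subtype) := by
    obtain ⟨U, hU⟩ := hPu.map (MvPolynomial.C (σ := τ) (R := L)).mapMatrix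
    have e1 : (∑ t, (MvPolynomial.X t : MvPolynomial τ L) • (M t).map MvPolynomial.C) =
        U.val * (∑ t, (MvPolynomial.X t : MvPolynomial τ L) • ((N t).map O.subtype).map MvPolynomial.C) *
          (U⁻¹ : (Matrix (Fin r) (Fin r) (MvPolynomial τ L))ˣ).val := by
      rw [Units.eq_mul_inv_iff_mul_eq, hU, Finset.sum_mul, Finset.mul_sum]
      refine Finset.sum_congr rfl fun t _ => ?_
      rw [smul_mul_assoc, mul_smul_comm]
      rw [RingHom.mapMatrix_apply, ← Matrix.map_mul, ← Matrix.map_mul, hMP]
    unfold genCharpoly
    rw [e1]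
    rw [Matrix.charpoly_mul_comm, ← mul_assoc, Units.inv_mul, one_mul]
  rw [key, genCharpoly_map, Polynomial.coeff_map, MvPolynomial.coeff_map]
  exact (MvPolynomial.coeff d ((genCharpoly N).coeff j)).2

/-- Integrality over a subring, from all valuation rings. -/
theorem isIntegral_of_forall_valuationSubring {A : Type u} [CommRing A] [Algebra A L] {x : L}
    (h : ∀ O : ValuationSubring L, (∀ a, algebraMap A L a ∈ O) → x ∈ O) : _root_.IsIntegral A x := by
  by_contra hx
  let R : Subring L := (integralClosure A L).toSubring
  haveI : IsIntegrallyClosedIn R L := by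
    rw [Subring.isIntegrallyClosedIn_iff]
    intro y hy
    exact isIntegral_trans (R := A) (A := integralClosure A L) y hy
  obtain ⟨V, hV, hxV⟩ := Subring.exists_le_valuationSubring_of_isIntegrallyClosedIn (R := R) hx
  exact hxV (h V fun a => hV ((integralClosure A L).algebraMap_mem a))

end Groth.Agent.H11Norm
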