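import Groth.Agent.H11Norm.Free

/-!
# Free charts of a restricted direct image
-/

set_option autoImplicit false
set_option linter.style.haveILetI false

noncomputable section

universe u

open CategoryTheory CategoryTheory.Limits AlgebraicGeometry Opposite TopologicalSpace

namespace Groth.Agent.H11Norm

variable {X X' : Scheme.{u}}

theorem exists_chart_of_restrict (g : X' ⟶ X) {T : X.Opens}
    (h : FlatMod.IsFinLocFree (((Coh.push g).obj (Coh.structureModule X')).restrict T.ι)) {x : X} (hx : x ∈ T) :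
    ∃ (U : X.Opens) (r : ℕ), x ∈ U ∧ U ≤ T ∧ IsChart g U r := by
  obtain ⟨U', r, hxU, ⟨e⟩⟩ := h ⟨x, hx⟩
  obtain ⟨m, hm⟩ := exists_sections_basis _ e
  refine ⟨T.ι ''ᵁ U', r, ⟨⟨x, hx⟩, hxU, rfl⟩, T.ι_image_le U', m, fun V hV => ?_⟩
  have hle : T.ι ⁻¹ᵁ V ≤ U' := (T.ι.preimage_mono hV).trans (T.ι.preimage_image_eq U').le
  suffices key : ∀ (W : X.Opens) (_ : W = T.ι ''ᵁ (T.ι ⁻¹ᵁ V)) (h0 : W ≤ T.ι ''ᵁ U'),
      letI := alg g W
      ∃ b : Module.Basis (Fin r) Γ(X, W) Γ(X', g ⁻¹ᵁ W), ∀ j, b j = res (g.preimage_mono h0) (m j) by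
    refine key V ?_ hV
    rw [Scheme.Hom.image_preimage_eq_opensRange_inf, Scheme.Opens.opensRange_ι,
      inf_eq_right.2 (hV.trans (T.ι_image_le U'))]
  rintro _ rfl h0
  obtain ⟨b, hb⟩ := hm (T.ι ⁻¹ᵁ V) hle
  letI := alg g (T.ι ''ᵁ (T.ι ⁻¹ᵁ V))
  let W := T.ι ''ᵁ (T.ι ⁻¹ᵁ V)
  have hsmul : ∀ (c : Γ(X, W)) (y : Γ(((Coh.push g).obj (Coh.structureModule X')).restrict T.ι, T.ι ⁻¹ᵁ V)),
      (show Γ(X', g ⁻¹ᵁ W) from ((show Γ(T.toScheme, T.ι ⁻¹ᵁ V) from c) • y)) =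
        c • (show Γ(X', g ⁻¹ᵁ W) from y) := by
    intro c y
    have h1 := Scheme.Modules.smul_restrictAppIso_hom_apply T.ι ((Coh.push g).obj (Coh.structureModule X'))
      (T.ι ⁻¹ᵁ V) (show Γ(T.toScheme, T.ι ⁻¹ᵁ V) from c) y
    rw [Scheme.Opens.ι_appIso] at h1
    exact h1
  let v : Fin r → Γ(X', g ⁻¹ᵁ W) := fun j => b j
  have hsum : ∀ c : Fin r → Γ(X, W), ∑ j, c j • v j =
      (show Γ(X', g ⁻¹ᵁ W) from ∑ j, (show Γ(T.toScheme, T.ι ⁻¹ᵁ V) from c j) • b j) := fun c => by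
    refine (Finset.sum_congr rfl fun j _ => (hsmul (c j) (b j)).symm).trans ?_
    rfl
  let b' : Module.Basis (Fin r) Γ(X, W) Γ(X', g ⁻¹ᵁ W) :=
    Module.Basis.mk (v := v)
      (Fintype.linearIndependent_iff.2 fun c hc =>
        Fintype.linearIndependent_iff.1 b.linearIndependent c ((hsum c).symm.trans hc))
      (fun y _ => (Submodule.mem_span_range_iff_exists_fun _).2
        ⟨fun j => b.repr y j, (hsum _).trans (b.sum_repr y)⟩)
  exact ⟨b', fun j => (Module.Basis.mk_apply _ _ j).trans (hb j)⟩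

end Groth.Agent.H11Norm
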