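import Groth.Agent.H11Norm.Free
import Mathlib.Algebra.MvPolynomial.Eval
import Mathlib.LinearAlgebra.Matrix.Basis

/-!
# The norm polynomial of a finite family of sections on a free chart
-/

set_option autoImplicit false
set_option linter.style.haveILetI false

noncomputable section

universe u

open CategoryTheory CategoryTheory.Limits AlgebraicGeometry Opposite TopologicalSpace

namespace Groth.Agent.H11Norm

variable {X X' : Scheme.{u}}

/-- `det (∑ Xⱼ Mⱼ)` for the matrices of multiplication by the `aⱼ`. -/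
def detPoly {A B : Type u} [CommRing A] [CommRing B] [Algebra A B] {r m : ℕ} (b : Module.Basis (Fin r) A B)
    (a : Fin m → B) : MvPolynomial (Fin m) A :=
  (∑ j, (MvPolynomial.X j : MvPolynomial (Fin m) A) • (Algebra.leftMulMatrix b (a j)).map MvPolynomial.C).det

theorem detPoly_basis {A B : Type u} [CommRing A] [CommRing B] [Algebra A B] {r m : ℕ}
    (b b' : Module.Basis (Fin r) A B) (a : Fin m → B) : detPoly b a = detPoly b' a := by
  classical
  let C := MvPolynomial (Fin m) A
  let Q : Matrix (Fin r) (Fin r) C := (b.toMatrix b').map MvPolynomial.C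
  let Q' : Matrix (Fin r) (Fin r) C := (b'.toMatrix b).map MvPolynomial.C
  have hQ : Q * Q' = 1 := by
    change (b.toMatrix b').map MvPolynomial.C * (b'.toMatrix b).map MvPolynomial.C = _
    rw [← Matrix.map_mul, b.toMatrix_mul_toMatrix_flip b', Matrix.map_one _ (map_zero _) (map_one _)]
  have h : ∀ y : B, (Algebra.leftMulMatrix b y).map (MvPolynomial.C (σ := Fin m)) =
      Q * (Algebra.leftMulMatrix b' y).map MvPolynomial.C * Q' := by
    intro y
    change _ = (b.toMatrix b').map MvPolynomial.C * _ * (b'.toMatrix b).map MvPolynomial.C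
    rw [← Matrix.map_mul, ← Matrix.map_mul]
    refine congrArg (fun N => Matrix.map N MvPolynomial.C) ?_
    rw [Algebra.leftMulMatrix_apply, Algebra.leftMulMatrix_apply]
    exact (basis_toMatrix_mul_linearMap_toMatrix_mul_basis_toMatrix b b' b b' _).symm
  have hsum : (∑ j, (MvPolynomial.X j : C) • (Algebra.leftMulMatrix b (a j)).map MvPolynomial.C) =
      Q * (∑ j, (MvPolynomial.X j : C) • (Algebra.leftMulMatrix b' (a j)).map MvPolynomial.C) * Q' := by
    rw [Matrix.mul_sum, Matrix.sum_mul]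
    exact Finset.sum_congr rfl fun j _ => by rw [h, Matrix.mul_smul, Matrix.smul_mul]
  rw [detPoly, detPoly, hsum, Matrix.det_mul, Matrix.det_mul, mul_right_comm, ← Matrix.det_mul, hQ,
    Matrix.det_one, one_mul]

theorem eval_detPoly {A B : Type u} [CommRing A] [CommRing B] [Algebra A B] {r m : ℕ}
    (b : Module.Basis (Fin r) A B) (a : Fin m → B) (c : Fin m → A) :
    MvPolynomial.eval c (detPoly b a) = Algebra.norm A (∑ j, algebraMap A B (c j) * a j) := by
  classical
  rw [detPoly, RingHom.map_det, Algebra.norm_eq_matrix_det b, map_sum, map_sum]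
  refine congrArg Matrix.det (Finset.sum_congr rfl fun j _ => ?_)
  rw [← Algebra.smul_def, map_smul (Algebra.leftMulMatrix b)]
  ext i k
  simp

theorem constantCoeff_detPoly {A B : Type u} [CommRing A] [CommRing B] [Algebra A B] {r m : ℕ}
    (b : Module.Basis (Fin r) A B) (a : Fin m → B) (hr : 0 < r) :
    MvPolynomial.constantCoeff (detPoly b a) = 0 := by
  classical
  haveI : Nonempty (Fin r) := ⟨⟨0, hr⟩⟩
  rw [detPoly, RingHom.map_det]
  have h : (MvPolynomial.constantCoeff (σ := Fin m) (R := A)).mapMatrix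
      (∑ j, (MvPolynomial.X j : MvPolynomial (Fin m) A) • (Algebra.leftMulMatrix b (a j)).map MvPolynomial.C) =
      (0 : Matrix (Fin r) (Fin r) A) := by
    rw [map_sum]
    refine Finset.sum_eq_zero fun j _ => ?_
    ext i k
    simp
  rw [h, Matrix.det_zero]

/-- The norm polynomial on an open with a basis of sections (`1` without one). -/
def genPoly (g : X' ⟶ X) (R : ℕ) (O : X.Opens) {m : ℕ} (a : Fin m → Γ(X', g ⁻¹ᵁ O)) :
    MvPolynomial (Fin m) Γ(X, O) :=
  letI := alg g O
  open Classical in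
  if h : ∃ r, Nonempty (Module.Basis (Fin r) Γ(X, O) Γ(X', g ⁻¹ᵁ O)) then
    detPoly h.choose_spec.some a ^ (R / h.choose)
  else 1

variable {g : X' ⟶ X} {U : X.Opens} {r : ℕ} {m : ℕ}

theorem genPoly_eq (hc : IsChart g U r) (R : ℕ) {O : X.Opens} (hO : O ≤ U) [Nontrivial Γ(X, O)]
    (a : Fin m → Γ(X', g ⁻¹ᵁ O)) :
    letI := alg g O
    ∀ b : Module.Basis (Fin r) Γ(X, O) Γ(X', g ⁻¹ᵁ O), genPoly g R O a = detPoly b a ^ (R / r) := by
  classical
  letI := alg g O
  intro b
  have h : ∃ r, Nonempty (Module.Basis (Fin r) Γ(X, O) Γ(X', g ⁻¹ᵁ O)) := ⟨r, ⟨b⟩⟩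
  have e : h.choose = r := by
    have h1 := Module.finrank_eq_card_basis h.choose_spec.some
    rw [Fintype.card_fin] at h1
    exact h1.symm.trans (hc.finrank_eq hO)
  rw [genPoly, dif_pos h]
  obtain ⟨r', hr', b', hb'⟩ : ∃ (r' : ℕ) (_ : r' = r) (b' : Module.Basis (Fin r') Γ(X, O) Γ(X', g ⁻¹ᵁ O)),
      detPoly h.choose_spec.some a ^ (R / h.choose) = detPoly b' a ^ (R / r') :=
    ⟨h.choose, e, h.choose_spec.some, rfl⟩
  subst hr'
  rw [hb', detPoly_basis b' b]

theorem subsingleton_mvPolynomial {σ : Type*} {A : Type u} [CommRing A] [Subsingleton A] :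
    Subsingleton (MvPolynomial σ A) :=
  ⟨fun _ _ => MvPolynomial.ext _ _ fun _ => Subsingleton.elim _ _⟩

/-- The norm polynomial commutes with restriction inside a chart. -/
theorem map_genPoly (hc : IsChart g U r) (R : ℕ) {O O' : X.Opens} (hO : O ≤ U) (hO' : O' ≤ O)
    (a : Fin m → Γ(X', g ⁻¹ᵁ O)) :
    MvPolynomial.map (X.presheaf.map (homOfLE hO').op).hom (genPoly g R O a) =
      genPoly g R O' (fun j => res (g.preimage_mono hO') (a j)) := by
  classical
  rcases subsingleton_or_nontrivial Γ(X, O') with hs | hn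
  · haveI := subsingleton_mvPolynomial (σ := Fin m) (A := Γ(X, O'))
    exact Subsingleton.elim _ _
  haveI : Nontrivial Γ(X, O) := (X.presheaf.map (homOfLE hO').op).hom.domain_nontrivial
  obtain ⟨s, hs⟩ := id hc
  letI := alg g O
  letI := alg g O'
  obtain ⟨b, hb⟩ := hs O hO
  obtain ⟨b', hb'⟩ := hs O' (hO'.trans hO)
  rw [genPoly_eq hc R hO a b, genPoly_eq hc R (hO'.trans hO) _ b', map_pow, detPoly, detPoly, RingHom.map_det,
    map_sum]
  refine congrArg (· ^ _) (congrArg Matrix.det (Finset.sum_congr rfl fun j _ => ?_))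
  have hbb : ∀ k, b' k = res (g.preimage_mono hO') (b k) := fun k => by
    rw [hb', hb]
    exact (H10Coh.rres_rres _ _ _).symm
  have hmat : ∀ i k, Algebra.leftMulMatrix b' (res (g.preimage_mono hO') (a j)) i k =
      res hO' (Algebra.leftMulMatrix b (a j) i k) := by
    intro i k
    rw [Algebra.leftMulMatrix_eq_repr_mul, Algebra.leftMulMatrix_eq_repr_mul, hbb]
    have hy : res (g.preimage_mono hO') (a j) * res (g.preimage_mono hO') (b k) =
        ∑ l, res hO' (b.repr (a j * b k) l) • b' l := by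
      refine (map_mul (X'.presheaf.map (homOfLE (g.preimage_mono hO')).op).hom _ _).symm.trans ?_
      conv_lhs => rw [← b.sum_repr (a j * b k)]
      rw [map_sum]
      refine Finset.sum_congr rfl fun l _ => ?_
      rw [Algebra.smul_def, Algebra.smul_def, map_mul, hbb]
      exact congrArg (· * _) (res_app g hO' _)
    rw [hy, b'.repr_sum_self]
  ext i k
  simp [hmat]

/-- Evaluating the norm polynomial gives the norm of the linear combination. -/
theorem eval_genPoly (hc : IsChart g U r) (R : ℕ) {O : X.Opens} (hO : O ≤ U)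
    (a : Fin m → Γ(X', g ⁻¹ᵁ O)) (c : Fin m → Γ(X, O)) :
    MvPolynomial.eval c (genPoly g R O a) = nrm g R O (∑ j, g.app O (c j) * a j) := by
  rcases subsingleton_or_nontrivial Γ(X, O) with hs | hn
  · exact Subsingleton.elim _ _
  obtain ⟨s, hs⟩ := id hc
  letI := alg g O
  obtain ⟨b, -⟩ := hs O hO
  rw [genPoly_eq hc R hO a b, map_pow, eval_detPoly, nrm, hc.finrank_eq hO]
  rfl

theorem constantCoeff_genPoly [Surjective g] (hc : IsChart g U r) {R : ℕ} (hR : 0 < R) (hr : r ∣ R)
    {O : X.Opens} (hO : O ≤ U) (a : Fin m → Γ(X', g ⁻¹ᵁ O)) :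
    MvPolynomial.constantCoeff (genPoly g R O a) = 0 := by
  rcases subsingleton_or_nontrivial Γ(X, O) with hs | hn
  · exact Subsingleton.elim _ _
  have hr0 := hc.rank_pos hO
  obtain ⟨s, hs⟩ := id hc
  letI := alg g O
  obtain ⟨b, -⟩ := hs O hO
  rw [genPoly_eq hc R hO a b, map_pow, constantCoeff_detPoly b a hr0,
    zero_pow (Nat.div_pos (Nat.le_of_dvd hR hr) hr0).ne']

end Groth.Agent.H11Norm
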