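import Groth.Agent.H3CAlg.NormTensor
import Mathlib.RingTheory.Polynomial.IsIntegral

/-!
# The generic determinant of a family of integral commuting matrices
-/

set_option autoImplicit false

universe u

open scoped TensorProduct

namespace Groth.Agent.H11Norm

attribute [local instance] MvPolynomial.algebraMvPolynomial

/-- The coefficients of `det (∑ Xⱼ Mⱼ)` are integral when the `Mⱼ` are images of integral elements of a
commutative algebra. -/
theorem isIntegral_coeff_det {R A K : Type u} [CommRing R] [CommRing A] [Algebra R A] [Algebra.IsIntegral R A]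
    [Field K] [Algebra R K] {r m : ℕ} (ψ : A →ₐ[R] Matrix (Fin r) (Fin r) K) (a : Fin m → A)
    (μ : Fin m →₀ ℕ) :
    IsIntegral R ((∑ j, (MvPolynomial.X j : MvPolynomial (Fin m) K) • (ψ (a j)).map MvPolynomial.C).det.coeff μ) := by
  classical
  let S := MvPolynomial (Fin m) R
  let F := MvPolynomial (Fin m) K
  let g : A →ₐ[R] Matrix (Fin r) (Fin r) F := (IsScalarTower.toAlgHom R K F).mapMatrix.comp ψ
  let f : S →ₐ[S] Matrix (Fin r) (Fin r) F := Algebra.ofId S _
  let Ψ : S ⊗[R] A →ₐ[S] Matrix (Fin r) (Fin r) F :=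
    Algebra.TensorProduct.lift f g fun x y => Algebra.commutes x (g y)
  let z : S ⊗[R] A := ∑ j, (MvPolynomial.X j : S) ⊗ₜ[R] a j
  obtain ⟨q, hq, hq0⟩ : IsIntegral S z := Algebra.IsIntegral.isIntegral z
  have hdet : IsIntegral S (Ψ z).det := H3CAlg.NormTensor.isIntegral_det _ q hq (by
    rw [Polynomial.aeval_algHom_apply, show Polynomial.aeval z q = 0 from hq0, map_zero])
  have e : Ψ z = ∑ j, (MvPolynomial.X j : F) • (ψ (a j)).map MvPolynomial.C := by
    simp only [z, map_sum]
    refine Finset.sum_congr rfl fun j _ => ?_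
    rw [Algebra.TensorProduct.lift_tmul]
    change algebraMap S (Matrix (Fin r) (Fin r) F) (MvPolynomial.X j) * g (a j) = _
    rw [← Algebra.smul_def, ← algebraMap_smul (R := S) F (MvPolynomial.X j)]
    change (MvPolynomial.map (algebraMap R K) (MvPolynomial.X j)) • _ = _
    rw [MvPolynomial.map_X]
    rfl
  rw [e] at hdet
  exact MvPolynomial.isIntegral_iff_isIntegral_coeff.1 hdet μ

end Groth.Agent.H11Norm
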