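import Groth.Agent.H11Norm.Eval
import Groth.Agent.H11Norm.GenPoly
import Groth.Agent.H11Norm.Integral
import Groth.Agent.H17.NormalNormalization

/-!
# Norms at the generic points and the coefficients of norm polynomials
-/

set_option autoImplicit false
set_option linter.style.haveILetI false

noncomputable section

universe u

open CategoryTheory CategoryTheory.Limits AlgebraicGeometry Opposite TopologicalSpace
open Groth.Agent.H7Lim.Approx

namespace Groth.Agent.H11Norm.Pieces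

variable {X X' : Scheme.{u}} {g : X' ⟶ X} (p : Pieces g)

/-- The exponent of the norm. -/
def R : ℕ :=
  letI := Fintype.ofFinite p.ι
  ∏ i, max (p.r i) 1

theorem R_pos : 0 < p.R := Finset.prod_pos fun _ _ => lt_max_of_lt_right Nat.one_pos

theorem rank_pos [Surjective g] (i : p.ι) : 0 < p.r i := by
  haveI : Nonempty (p.W i) := ⟨⟨p.η i, (p.generic i).1⟩⟩
  exact (p.isChart i).rank_pos le_rfl

theorem r_dvd [Surjective g] (i : p.ι) : p.r i ∣ p.R := by
  letI := Fintype.ofFinite p.ι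
  have h := Finset.dvd_prod_of_mem (fun i => max (p.r i) 1) (Finset.mem_univ i)
  change max (p.r i) 1 ∣ _ at h
  rwa [max_eq_left (p.rank_pos i)] at h

/-- The norm at a generic point. -/
def nev (i : p.ι) (U : X.Opens) (h : p.η i ∈ U) (a : Γ(X', g ⁻¹ᵁ U)) : X.presheaf.stalk (p.η i) :=
  X.presheaf.germ (U ⊓ p.W i) (p.η i) ⟨h, (p.generic i).1⟩
    (nrm g p.R (U ⊓ p.W i) (res (g.preimage_mono inf_le_left) a))

theorem nev_res (i : p.ι) {U V : X.Opens} (hVU : V ≤ U) (h : p.η i ∈ V) (a : Γ(X', g ⁻¹ᵁ U)) :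
    p.nev i V h (res (g.preimage_mono hVU) a) = p.nev i U (hVU h) a := by
  rw [nev, nev]
  have h1 : V ⊓ p.W i ≤ U ⊓ p.W i := inf_le_inf_right _ hVU
  have e := congrArg (X.presheaf.germ (V ⊓ p.W i) (p.η i) ⟨h, (p.generic i).1⟩)
    ((p.isChart i).nrm_natural p.R (inf_le_right : U ⊓ p.W i ≤ p.W i) h1
      (res (g.preimage_mono inf_le_left) a))
  refine Eq.trans ?_ (e.symm.trans (TopCat.Presheaf.germ_res_apply X.presheaf (homOfLE h1) _ _ _))
  exact congrArg _ (congrArg _ ((H10Coh.rres_rres _ _ _).trans (H10Coh.rres_rres _ _ _).symm))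

theorem nev_one (i : p.ι) (U : X.Opens) (h : p.η i ∈ U) : p.nev i U h 1 = 1 := by
  rw [nev]
  exact (congrArg _ ((congrArg _ (_root_.map_one _)).trans (nrm_one g _ _))).trans (_root_.map_one _)

theorem nev_mul (i : p.ι) (U : X.Opens) (h : p.η i ∈ U) (a b : Γ(X', g ⁻¹ᵁ U)) :
    p.nev i U h (a * b) = p.nev i U h a * p.nev i U h b := by
  rw [nev, nev, nev]
  exact (congrArg _ ((congrArg _ (_root_.map_mul _ _ _)).trans (nrm_mul g _ _ _ _))).trans (_root_.map_mul _ _ _)

theorem nev_app [Surjective g] (i : p.ι) (U : X.Opens) (h : p.η i ∈ U) (c : Γ(X, U)) :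
    p.nev i U h (g.app U c) = X.presheaf.germ U (p.η i) h c ^ p.R := by
  rw [nev, res_app g (inf_le_left : U ⊓ p.W i ≤ U), (p.isChart i).nrm_app (p.r_dvd i) inf_le_right, map_pow,
    TopCat.Presheaf.germ_res_apply]

variable {m : ℕ}

/-- A coefficient of the norm polynomial, on the union of the pieces. -/
def coeffSec (V : X.Opens) (a : Fin m → Γ(X', g ⁻¹ᵁ V)) (μ : Fin m →₀ ℕ) : p.dsec V :=
  (p.exists_dsec V fun i =>
    (genPoly g p.R (V ⊓ p.W i) fun j => res (g.preimage_mono inf_le_left) (a j)).coeff μ).choose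

theorem ev_coeffSec (V : X.Opens) (a : Fin m → Γ(X', g ⁻¹ᵁ V)) (μ : Fin m →₀ ℕ) (i : p.ι) (h : p.η i ∈ V) :
    p.ev i V h (p.coeffSec V a μ) = X.presheaf.germ (V ⊓ p.W i) (p.η i) ⟨h, (p.generic i).1⟩
      ((genPoly g p.R (V ⊓ p.W i) fun j => res (g.preimage_mono inf_le_left) (a j)).coeff μ) :=
  (p.exists_dsec V fun i =>
    (genPoly g p.R (V ⊓ p.W i) fun j => res (g.preimage_mono inf_le_left) (a j)).coeff μ).choose_spec i h

/-- The exponents occurring in the norm polynomials. -/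
def expo (V : X.Opens) (a : Fin m → Γ(X', g ⁻¹ᵁ V)) : Finset (Fin m →₀ ℕ) :=
  letI := Fintype.ofFinite p.ι
  letI := Classical.decEq (Fin m →₀ ℕ)
  Finset.univ.biUnion fun i =>
    (genPoly g p.R (V ⊓ p.W i) fun j => res (g.preimage_mono inf_le_left) (a j)).support

theorem support_subset_expo (V : X.Opens) (a : Fin m → Γ(X', g ⁻¹ᵁ V)) (i : p.ι) :
    (genPoly g p.R (V ⊓ p.W i) fun j => res (g.preimage_mono inf_le_left) (a j)).support ⊆ p.expo V a := by
  letI := Fintype.ofFinite p.ι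
  letI := Classical.decEq (Fin m →₀ ℕ)
  intro μ hμ
  exact Finset.mem_biUnion.2 ⟨i, Finset.mem_univ i, hμ⟩

/-- The norm of a linear combination through the coefficients. -/
theorem ev_combination (V : X.Opens) (a : Fin m → Γ(X', g ⁻¹ᵁ V)) (c : Fin m → Γ(X, V)) (i : p.ι)
    (h : p.η i ∈ V) :
    p.ev i V h (∑ μ ∈ p.expo V a, p.D.ι.app V (∏ j, c j ^ μ j) * p.coeffSec V a μ) =
      p.nev i V h (∑ j, g.app V (c j) * a j) := by
  classical
  let O := V ⊓ p.W i
  let P := genPoly g p.R O fun j => res (g.preimage_mono inf_le_left) (a j)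
  let γ : Γ(X, V) →+* X.presheaf.stalk (p.η i) := (X.presheaf.germ V (p.η i) h).hom
  let γO : Γ(X, O) →+* X.presheaf.stalk (p.η i) := (X.presheaf.germ O (p.η i) ⟨h, (p.generic i).1⟩).hom
  have hγ : ∀ s, γO (res (inf_le_left : O ≤ V) s) = γ s := fun s =>
    TopCat.Presheaf.germ_res_apply X.presheaf _ _ _ _
  have h1 : p.nev i V h (∑ j, g.app V (c j) * a j) =
      γO (MvPolynomial.eval (fun j => res (inf_le_left : O ≤ V) (c j)) P) := by
    rw [nev, eval_genPoly (p.isChart i) p.R inf_le_right]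
    refine congrArg _ (congrArg _ ?_)
    change (X'.presheaf.map _).hom _ = _
    rw [map_sum]
    exact Finset.sum_congr rfl fun j _ => (map_mul _ _ _).trans (congrArg (· * _) (res_app g _ _))
  rw [h1, MvPolynomial.eval_eq', map_sum, map_sum,
    ← Finset.sum_subset (p.support_subset_expo V a i)]
  · refine Finset.sum_congr rfl fun μ _ => ?_
    rw [map_mul, ev_app, ev_coeffSec, map_mul, mul_comm]
    refine congrArg₂ (· * ·) rfl ?_
    change γ _ = γO _
    rw [map_prod, map_prod]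
    refine Finset.prod_congr rfl fun j _ => ?_
    rw [map_pow, map_pow, hγ]
  · intro μ _ hμ
    rw [map_mul, ev_coeffSec, MvPolynomial.notMem_support_iff.1 hμ, map_zero, mul_zero]

theorem coeffSec_zero [IsReduced X] [Surjective g] (V : X.Opens) (a : Fin m → Γ(X', g ⁻¹ᵁ V)) :
    p.coeffSec V a 0 = 0 := by
  refine p.dsec_ext fun i h => ?_
  rw [ev_coeffSec, map_zero, ← MvPolynomial.constantCoeff_eq,
    constantCoeff_genPoly (p.isChart i) p.R_pos (p.r_dvd i) inf_le_right, map_zero]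

/-- The coefficients are integral over the functions of the affine open. -/
theorem coeffSec_mem_intRing [IsReduced X] [IsFinite g] {V : X.Opens} (hV : IsAffineOpen V)
    (a : Fin m → Γ(X', g ⁻¹ᵁ V)) (μ : Fin m →₀ ℕ) : p.coeffSec V a μ ∈ p.intRing V := by
  classical
  letI := Fintype.ofFinite p.ι
  have key : ∀ i, ∃ q : Polynomial Γ(X, V), q.Monic ∧ ∀ h : p.η i ∈ V,
      Polynomial.eval₂ (X.presheaf.germ V (p.η i) h).hom (p.ev i V h (p.coeffSec V a μ)) q = 0 := by
    intro i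
    by_cases h : p.η i ∈ V
    swap
    · exact ⟨1, Polynomial.monic_one, fun h' => absurd h' h⟩
    let O := V ⊓ p.W i
    let η := p.η i
    have hη : η ∈ O := ⟨h, (p.generic i).1⟩
    haveI : Nonempty O := ⟨⟨η, hη⟩⟩
    letI := (p.isField i).toField
    letI : Algebra Γ(X, V) (X.presheaf.stalk η) := (X.presheaf.germ V η h).hom.toAlgebra
    letI := alg g V
    letI := alg g O
    haveI : Module.Finite Γ(X, V) Γ(X', g ⁻¹ᵁ V) := IsFinite.finite_app g V hV
    obtain ⟨s, hs⟩ := p.isChart i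
    obtain ⟨b, -⟩ := hs O inf_le_right
    let γO : Γ(X, O) →+* X.presheaf.stalk η := (X.presheaf.germ O η hη).hom
    let ρ : Γ(X', g ⁻¹ᵁ V) →+* Γ(X', g ⁻¹ᵁ O) :=
      (X'.presheaf.map (homOfLE (g.preimage_mono (inf_le_left : O ≤ V))).op).hom
    let ψ : Γ(X', g ⁻¹ᵁ V) →ₐ[Γ(X, V)] Matrix (Fin (p.r i)) (Fin (p.r i)) (X.presheaf.stalk η) :=
      { (γO.mapMatrix.comp (Algebra.leftMulMatrix b).toRingHom).comp ρ with
        commutes' := fun c => by
          change γO.mapMatrix (Algebra.leftMulMatrix b (res _ (g.app V c))) = _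
          rw [res_app g (inf_le_left : O ≤ V)]
          change γO.mapMatrix (Algebra.leftMulMatrix b (algebraMap Γ(X, O) _ (res _ c))) = _
          rw [AlgHom.commutes, Matrix.algebraMap_eq_diagonal, RingHom.mapMatrix_apply,
            Matrix.diagonal_map (map_zero _), Matrix.algebraMap_eq_diagonal]
          refine congrArg Matrix.diagonal (funext fun _ => ?_)
          exact TopCat.Presheaf.germ_res_apply X.presheaf _ _ hη c }
    let a' : Fin m → Γ(X', g ⁻¹ᵁ O) := fun j => res (g.preimage_mono (inf_le_left : O ≤ V)) (a j)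
    have hP := genPoly_eq (p.isChart i) p.R (inf_le_right : O ≤ p.W i) a' b
    have hmap : MvPolynomial.map γO (genPoly g p.R O a') =
        (∑ j, (MvPolynomial.X j : MvPolynomial (Fin m) (X.presheaf.stalk η)) •
          (ψ (a j)).map MvPolynomial.C).det ^ (p.R / p.r i) := by
      rw [hP, map_pow, detPoly, RingHom.map_det, map_sum]
      refine congrArg (· ^ _) (congrArg Matrix.det (Finset.sum_congr rfl fun j _ => ?_))
      ext k l
      simp [ψ, a', ρ]
    letI : Algebra (MvPolynomial (Fin m) Γ(X, V)) (MvPolynomial (Fin m) (X.presheaf.stalk η)) :=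
      MvPolynomial.algebraMvPolynomial
    have hint := (MvPolynomial.isIntegral_iff_isIntegral_coeff (R := Γ(X, V))).2
      (fun ν => isIntegral_coeff_det ψ a ν)
    obtain ⟨q, hq, hq0⟩ := (MvPolynomial.isIntegral_iff_isIntegral_coeff (R := Γ(X, V))).1
      (hint.pow (p.R / p.r i)) μ
    refine ⟨q, hq, fun h' => ?_⟩
    rw [ev_coeffSec]
    rw [← hmap, MvPolynomial.coeff_map] at hq0
    exact hq0
  choose q hq hq0 using key
  refine p.mem_intRing.2 ⟨∏ i, q i, Polynomial.monic_prod_of_monic _ _ fun i _ => hq i, ?_⟩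
  refine p.dsec_ext fun i h => ?_
  rw [map_zero, Polynomial.hom_eval₂]
  have hc : (p.ev i V h).comp (p.D.ι.app V).hom = (X.presheaf.germ V (p.η i) h).hom :=
    RingHom.ext fun s => p.ev_app i V h s
  rw [hc, Polynomial.eval₂_finsetProd]
  exact Finset.prod_eq_zero (Finset.mem_univ i) (hq0 i h)

/-- An integral section extends near a normal point. -/
theorem exists_extend_normal [IsReduced X]
    (hX : IsLocallyNoetherian X ∨ (IsReduced X ∧ (irreducibleComponents X).Finite)) {U : X.Opens} {b : p.dsec U}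
    (hb : b ∈ p.intRing U) {x : X} (hx : x ∈ U) [IsDomain (X.presheaf.stalk x)]
    [IsIntegrallyClosed (X.presheaf.stalk x)] :
    ∃ (V : X.Opens) (hV : V ≤ U) (c : Γ(X, V)), x ∈ V ∧
      ∀ (i : p.ι) (h : p.η i ∈ V), p.ev i U (hV h) b = X.presheaf.germ V (p.η i) h c := by
  classical
  obtain ⟨V₀, hxV₀, -, hint⟩ := H17.exists_isIntegral_nhd x hX
  haveI := hint
  let V₁ := U ⊓ V₀
  have hxV₁ : x ∈ V₁ := ⟨hx, hxV₀⟩
  by_cases hex : ∃ i, p.η i ∈ V₁
  swap
  · exact ⟨V₁, inf_le_left, 0, hxV₁, fun i h => absurd ⟨i, h⟩ hex⟩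
  obtain ⟨i, hi⟩ := hex
  have hgen : genericPoint V₀.toScheme = (⟨p.η i, hi.2⟩ : V₀.toScheme) := by
    have h1 : (genericPoint V₀.toScheme).1 ⤳ p.η i := by
      exact ((genericPoint_spec V₀.toScheme).specializes
        (Set.mem_univ (⟨p.η i, hi.2⟩ : V₀.toScheme))).map V₀.ι.continuous
    refine Subtype.ext ?_
    have hmem : (genericPoint V₀.toScheme).1 ∈ p.W i := h1.mem_open (p.W i).isOpen (p.generic i).1
    have h2 : p.η i ⤳ (genericPoint V₀.toScheme).1 := by
      rw [specializes_iff_forall_open]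
      intro s hs hgs
      exact ((p.generic i).2 (p.W i ⊓ ⟨s, hs⟩) inf_le_left _ ⟨hmem, hgs⟩).2
    exact (h1.antisymm h2).eq
  have huniq : ∀ j, p.η j ∈ V₀ → j = i := fun j hj => by
    by_contra hne
    have h1 : p.η i ⤳ p.η j := by
      have := ((genericPoint_spec V₀.toScheme).specializes
        (Set.mem_univ (⟨p.η j, hj⟩ : V₀.toScheme))).map V₀.ι.continuous
      rw [hgen] at this
      exact this
    have h2 : p.η i ∈ p.W j ⊓ p.W i := ⟨h1.mem_open (p.W j).isOpen (p.generic j).1, (p.generic i).1⟩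
    rw [p.disjoint j i hne] at h2
    exact h2
  have hsp : p.η i ⤳ x := by
    have := ((genericPoint_spec V₀.toScheme).specializes
      (Set.mem_univ (⟨x, hxV₀⟩ : V₀.toScheme))).map V₀.ι.continuous
    rw [hgen] at this
    exact this
  let O := X.presheaf.stalk x
  let σ : O →+* X.presheaf.stalk (p.η i) := (X.presheaf.stalkSpecializes hsp).hom
  have hσ : ∀ (T : X.Opens) (hT : x ∈ T) (s : Γ(X, T)),
      σ (X.presheaf.germ T x hT s) = X.presheaf.germ T (p.η i) (hsp.mem_open T.isOpen hT) s :=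
    fun T hT s => TopCat.Presheaf.germ_stalkSpecializes_apply X.presheaf hT hsp s
  obtain ⟨q, hq, hq0⟩ := p.mem_intRing.1 hb
  have hq1 : Polynomial.eval₂ (X.presheaf.germ U (p.η i) hi.1).hom (p.ev i U hi.1 b) q = 0 := by
    have hc : (p.ev i U hi.1).comp (p.D.ι.app U).hom = (X.presheaf.germ U (p.η i) hi.1).hom :=
      RingHom.ext fun s => p.ev_app i U hi.1 s
    rw [← hc, ← Polynomial.hom_eval₂, hq0, map_zero]
  obtain ⟨o, ho⟩ := H17.NormalNormalization.exists_eq_of_integral (p.isField i) hsp (p.ev i U hi.1 b)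
    ⟨q.map (X.presheaf.germ U x hx).hom, hq.map _, by
      rw [Polynomial.eval₂_map]
      have hc : σ.comp (X.presheaf.germ U x hx).hom = (X.presheaf.germ U (p.η i) hi.1).hom :=
        RingHom.ext fun s => hσ U hx s
      rw [hc]
      exact hq1⟩
  obtain ⟨T, hT, c, rfl⟩ := X.presheaf.exists_germ_eq o
  refine ⟨T ⊓ V₁, inf_le_right.trans inf_le_left, res inf_le_left c, ⟨hT, hxV₁⟩, fun j hj => ?_⟩
  obtain rfl := huniq j hj.2.2
  rw [TopCat.Presheaf.germ_res_apply]
  exact ho.symm.trans (hσ T hT c)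

/-- The coefficients extend inside a free chart. -/
theorem exists_extend_chart [IsReduced X] {V : X.Opens} (a : Fin m → Γ(X', g ⁻¹ᵁ V)) (μ : Fin m →₀ ℕ)
    {T : X.Opens} {r : ℕ} (hT : IsChart g T r) :
    ∃ c : Γ(X, V ⊓ T), ∀ (i : p.ι) (h : p.η i ∈ V ⊓ T),
      p.ev i V h.1 (p.coeffSec V a μ) = X.presheaf.germ (V ⊓ T) (p.η i) h c := by
  refine ⟨(genPoly g p.R (V ⊓ T) fun j => res (g.preimage_mono inf_le_left) (a j)).coeff μ, fun i h => ?_⟩
  rw [ev_coeffSec]
  let O := V ⊓ T ⊓ p.W i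
  have hO : p.η i ∈ O := ⟨h, (p.generic i).1⟩
  have h1 : O ≤ V ⊓ p.W i := inf_le_inf_right _ inf_le_left
  have h2 : O ≤ V ⊓ T := inf_le_left
  have e1 := congrArg (fun P => P.coeff μ) (map_genPoly (p.isChart i) p.R (inf_le_right : V ⊓ p.W i ≤ p.W i) h1
    (fun j => res (g.preimage_mono inf_le_left) (a j)))
  have e2 := congrArg (fun P => P.coeff μ) (map_genPoly hT p.R (inf_le_right : V ⊓ T ≤ T) h2
    (fun j => res (g.preimage_mono inf_le_left) (a j)))
  simp only [MvPolynomial.coeff_map] at e1 e2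
  refine (TopCat.Presheaf.germ_res_apply X.presheaf (homOfLE h1) _ hO _).symm.trans
    (Eq.trans (congrArg _ ?_) (TopCat.Presheaf.germ_res_apply X.presheaf (homOfLE h2) _ hO _))
  refine e1.trans (Eq.trans ?_ e2.symm)
  refine congrArg (fun P => MvPolynomial.coeff μ P) (congrArg _ (funext fun j => ?_))
  exact (H10Coh.rres_rres _ _ _).trans (H10Coh.rres_rres _ _ _).symm

end Groth.Agent.H11Norm.Pieces
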