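import Groth.Agent.H11Norm.Generic
import Groth.Agent.H25FinCov.Trace
import Groth.Agent.H7Lim.Approx.SubLimit
import Mathlib.RingTheory.Polynomial.ScaleRoots

/-!
# Functions on the union of the pieces, seen in the fields at the generic points
-/

set_option autoImplicit false
set_option linter.style.haveILetI false

noncomputable section

universe u

open CategoryTheory CategoryTheory.Limits AlgebraicGeometry Opposite TopologicalSpace
open Groth.Agent.H7Lim.Approx

namespace Groth.Agent.H11Norm.Pieces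

variable {X X' : Scheme.{u}} {g : X' ⟶ X} (p : Pieces g)

theorem η_mem_D (i : p.ι) : p.η i ∈ p.D := Opens.mem_iSup.2 ⟨i, (p.generic i).1⟩

theorem W_le_D (i : p.ι) : p.W i ≤ p.D := le_iSup p.W i

/-- Functions on the part of an open in the union of the pieces. -/
abbrev dsec (U : X.Opens) : Type u := Γ(p.D.toScheme, p.D.ι ⁻¹ᵁ U)

theorem img_eq (U : X.Opens) : p.D.ι ''ᵁ (p.D.ι ⁻¹ᵁ U) = p.D ⊓ U := by
  rw [Scheme.Hom.image_preimage_eq_opensRange_inf, Scheme.Opens.opensRange_ι]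

theorem η_mem_img {i : p.ι} {U : X.Opens} (h : p.η i ∈ U) : p.η i ∈ p.D.ι ''ᵁ (p.D.ι ⁻¹ᵁ U) := by
  rw [p.img_eq]
  exact ⟨p.η_mem_D i, h⟩

/-- The value at a generic point. -/
def ev (i : p.ι) (U : X.Opens) (h : p.η i ∈ U) : p.dsec U →+* X.presheaf.stalk (p.η i) :=
  (X.presheaf.germ (p.D.ι ''ᵁ (p.D.ι ⁻¹ᵁ U)) (p.η i) (p.η_mem_img h)).hom

theorem ev_app (i : p.ι) (U : X.Opens) (h : p.η i ∈ U) (s : Γ(X, U)) :
    p.ev i U h (p.D.ι.app U s) = X.presheaf.germ U (p.η i) h s := by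
  rw [Scheme.Opens.ι_app]
  exact TopCat.Presheaf.germ_res_apply X.presheaf _ _ _ s

theorem ev_res (i : p.ι) {U V : X.Opens} (hUV : U ≤ V) (h : p.η i ∈ U) (b : p.dsec V) :
    p.ev i U h (rX p.D.ι hUV b) = p.ev i V (hUV h) b :=
  TopCat.Presheaf.germ_res_apply X.presheaf
    (homOfLE (p.D.ι.image_mono (p.D.ι.preimage_mono hUV))) _ _ b

theorem dsec_ext [IsReduced X] {U : X.Opens} {b b' : p.dsec U}
    (h : ∀ (i : p.ι) (hi : p.η i ∈ U), p.ev i U hi b = p.ev i U hi b') : b = b' := by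
  let O := p.D.ι ''ᵁ (p.D.ι ⁻¹ᵁ U)
  refine TopCat.Presheaf.section_ext X.sheaf O b b' fun x hx => ?_
  obtain ⟨i, hi⟩ := Opens.mem_iSup.1 (((p.img_eq U).le hx).1)
  have hη : p.η i ∈ O ⊓ p.W i := (p.generic i).2 (O ⊓ p.W i) inf_le_right x ⟨hx, hi⟩
  have key : res (inf_le_left : O ⊓ p.W i ≤ O) (show Γ(X, O) from b) =
      res (inf_le_left : O ⊓ p.W i ≤ O) (show Γ(X, O) from b') := by
    refine sub_eq_zero.1 ((p.generic i).eq_zero (inf_le_right : O ⊓ p.W i ≤ p.W i) hη ?_)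
    rw [map_sub, sub_eq_zero]
    refine (TopCat.Presheaf.germ_res_apply X.presheaf _ _ hη _).trans
      (Eq.trans ?_ (TopCat.Presheaf.germ_res_apply X.presheaf _ _ hη _).symm)
    exact h i ((p.img_eq U).le hη.1).2
  have h2 := congrArg (X.presheaf.germ (O ⊓ p.W i) x ⟨hx, hi⟩) key
  exact (TopCat.Presheaf.germ_res_apply X.presheaf (homOfLE (inf_le_left : O ⊓ p.W i ≤ O)) _ ⟨hx, hi⟩ _).symm.trans
    (h2.trans (TopCat.Presheaf.germ_res_apply X.presheaf (homOfLE (inf_le_left : O ⊓ p.W i ≤ O)) _ ⟨hx, hi⟩ _))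

theorem exists_dsec (U : X.Opens) (s : ∀ i, Γ(X, U ⊓ p.W i)) :
    ∃ b : p.dsec U, ∀ (i : p.ι) (h : p.η i ∈ U),
      p.ev i U h b = X.presheaf.germ (U ⊓ p.W i) (p.η i) ⟨h, (p.generic i).1⟩ (s i) := by
  classical
  let O := p.D.ι ''ᵁ (p.D.ι ⁻¹ᵁ U)
  have hle : ∀ i, O ⊓ p.W i ≤ U ⊓ p.W i := fun i =>
    le_inf ((inf_le_left.trans (p.img_eq U).le).trans inf_le_right) inf_le_right
  obtain ⟨b, hb, -⟩ := TopCat.Sheaf.existsUnique_gluing' X.sheaf (fun i => O ⊓ p.W i) O
    (fun i => homOfLE inf_le_left) (fun x hx => by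
      obtain ⟨i, hi⟩ := Opens.mem_iSup.1 (((p.img_eq U).le hx).1)
      exact Opens.mem_iSup.2 ⟨i, hx, hi⟩)
    (fun i => res (hle i) (s i)) (fun i j => by
      rcases eq_or_ne i j with rfl | hij
      · rfl
      · haveI : Subsingleton Γ(X, (O ⊓ p.W i) ⊓ (O ⊓ p.W j)) := subsingleton_of_not_nonempty fun x hx => by
          have : x ∈ p.W i ⊓ p.W j := ⟨hx.1.2, hx.2.2⟩
          rw [p.disjoint i j hij] at this
          exact this
        exact Subsingleton.elim (α := Γ(X, (O ⊓ p.W i) ⊓ (O ⊓ p.W j))) _ _)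
  refine ⟨b, fun i h => ?_⟩
  have hη : p.η i ∈ O ⊓ p.W i := ⟨p.η_mem_img h, (p.generic i).1⟩
  have h1 := congrArg (X.presheaf.germ (O ⊓ p.W i) (p.η i) hη) (hb i)
  refine (Eq.trans ?_ h1).trans (TopCat.Presheaf.germ_res_apply X.presheaf (homOfLE (hle i)) _ hη _)
  exact (TopCat.Presheaf.germ_res_apply X.presheaf (homOfLE (inf_le_left : O ⊓ p.W i ≤ O)) _ hη b).symm

/-- Sections integral over the functions of the base. -/
def intRing (U : X.Opens) : Subring (p.dsec U) :=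
  letI := (p.D.ι.app U).hom.toAlgebra
  (integralClosure Γ(X, U) (p.dsec U)).toSubring

theorem mem_intRing {U : X.Opens} {b : p.dsec U} :
    b ∈ p.intRing U ↔ (p.D.ι.app U).hom.IsIntegralElem b := Iff.rfl

theorem res_mem_intRing {U V : X.Opens} (h : U ≤ V) {b : p.dsec V} (hb : b ∈ p.intRing V) :
    rX p.D.ι h b ∈ p.intRing U := by
  obtain ⟨q, hq, e⟩ := p.mem_intRing.1 hb
  refine p.mem_intRing.2 ⟨q.map (X.presheaf.map (homOfLE h).op).hom, hq.map _, ?_⟩
  have hc : (p.D.ι.app U).hom.comp (X.presheaf.map (homOfLE h).op).hom =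
      (rX p.D.ι h).comp (p.D.ι.app V).hom := RingHom.ext fun s => (rX_app p.D.ι h s).symm
  rw [Polynomial.eval₂_map, hc, ← Polynomial.hom_eval₂, e, map_zero]

variable [QuasiCompact p.D.ι] [QuasiSeparated p.D.ι]

/-- The quasi-coherent subalgebra of integral sections. -/
def intSub : Sub p.D.ι where
  S U := p.intRing U.1
  app_mem U s := p.mem_intRing.2 (RingHom.isIntegralElem_map (p.D.ι.app U.1).hom)
  res_mem U r x hx := p.res_mem_intRing _ hx
  exists_mul U r x hx := by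
    classical
    obtain ⟨n, a, -, ha⟩ := (Sub.top p.D.ι).exists_mul U r x (Subring.mem_top _)
    let rho := rX p.D.ι (X.basicOpen_le r)
    have hxr : rho a ∈ p.intRing (X.basicOpen r) := by
      change rX p.D.ι _ a ∈ _
      rw [ha]
      exact mul_mem hx (by rw [← map_pow, rX_app]; exact p.mem_intRing.2 (RingHom.isIntegralElem_map _))
    obtain ⟨q, hq, hqe⟩ := p.mem_intRing.1 hxr
    haveI := U.2.isLocalization_basicOpen r
    letI : Algebra Γ(X, U.1) Γ(X, X.basicOpen r) := (X.presheaf.map (homOfLE (X.basicOpen_le r)).op).hom.toAlgebra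
    -- a monic polynomial over `Γ(U)` killing `r ^ k a` on `D(r)`
    obtain ⟨k, q₀, hq₀, he⟩ : ∃ (k : ℕ) (q₀ : Polynomial Γ(X, U.1)), q₀.Monic ∧
        rho (Polynomial.eval₂ (p.D.ι.app U.1).hom (p.D.ι.app U.1 (r ^ k) * a) q₀) = 0 := by
      rcases subsingleton_or_nontrivial Γ(X, X.basicOpen r) with hs | hn
      · refine ⟨0, 1, Polynomial.monic_one, ?_⟩
        have h10 := congrArg (p.D.ι.app (X.basicOpen r)).hom (Subsingleton.elim (1 : Γ(X, X.basicOpen r)) 0)
        rw [map_one, map_zero] at h10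
        rw [Polynomial.eval₂_one, map_one]
        exact h10
      obtain ⟨⟨_, k, rfl⟩, hk⟩ := IsLocalization.exist_integer_multiples_of_finset (Submonoid.powers r)
        (Finset.image q.coeff (Finset.range q.natDegree))
      let c := algebraMap Γ(X, U.1) Γ(X, X.basicOpen r) (r ^ k)
      have hlift : (q.scaleRoots c) ∈ Polynomial.lifts (algebraMap Γ(X, U.1) Γ(X, X.basicOpen r)) := by
        rw [Polynomial.lifts_iff_coeff_lifts]
        intro i
        rw [Polynomial.coeff_scaleRoots]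
        rcases Nat.lt_or_ge i q.natDegree with hi | hi
        · obtain ⟨d, hd⟩ : ∃ d, q.natDegree - i = d + 1 := ⟨q.natDegree - i - 1, by omega⟩
          rw [hd, pow_succ', ← mul_assoc]
          obtain ⟨z, hz⟩ := hk (q.coeff i) (Finset.mem_image_of_mem _ (Finset.mem_range.2 hi))
          refine ⟨z * (r ^ k) ^ d, ?_⟩
          rw [map_mul, map_pow, hz, Algebra.smul_def, mul_comm (algebraMap _ _ _)]
        · rw [Nat.sub_eq_zero_of_le hi, pow_zero, mul_one]
          rcases hi.eq_or_lt with h' | h'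
          · rw [← h', hq.coeff_natDegree]
            exact ⟨1, map_one _⟩
          · rw [Polynomial.coeff_eq_zero_of_natDegree_lt h']
            exact ⟨0, map_zero _⟩
      obtain ⟨q₀, hq₀e, -, hq₀m⟩ := Polynomial.lifts_and_degree_eq_and_monic hlift
        ((Polynomial.monic_scaleRoots_iff c).2 hq)
      refine ⟨k, q₀, hq₀m, ?_⟩
      rw [Polynomial.hom_eval₂, map_mul]
      have hc : rho.comp (p.D.ι.app U.1).hom =
          (p.D.ι.app (X.basicOpen r)).hom.comp (algebraMap Γ(X, U.1) Γ(X, X.basicOpen r)) :=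
        RingHom.ext fun s => rX_app p.D.ι _ s
      rw [hc, ← Polynomial.eval₂_map, hq₀e]
      have hr : rho (p.D.ι.app U.1 (r ^ k)) = (p.D.ι.app (X.basicOpen r)).hom c := rX_app p.D.ι _ _
      rw [hr]
      exact Polynomial.scaleRoots_eval₂_eq_zero _ hqe
    obtain ⟨N, hN⟩ := exists_pow_mul_eq p.D.ι U r
      (a := Polynomial.eval₂ (p.D.ι.app U.1).hom (p.D.ι.app U.1 (r ^ k) * a) q₀) (b := 0)
      (by rw [map_zero]; exact he)
    rw [mul_zero] at hN
    refine ⟨n + k + N, p.D.ι.app U.1 (r ^ N) * (p.D.ι.app U.1 (r ^ k) * a), ?_, ?_⟩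
    · rcases Nat.eq_zero_or_pos q₀.natDegree with h0 | h0
      · have h1 : q₀ = 1 := hq₀.natDegree_eq_zero.1 h0
        rw [h1, Polynomial.eval₂_one, mul_one, ← map_pow] at hN
        rw [hN, zero_mul]
        exact zero_mem _
      refine p.mem_intRing.2 ⟨q₀.scaleRoots (r ^ N), (Polynomial.monic_scaleRoots_iff _).2 hq₀, ?_⟩
      rw [Polynomial.scaleRoots_eval₂_mul]
      obtain ⟨d, hd⟩ := Nat.exists_eq_succ_of_ne_zero h0.ne'
      rw [hd, pow_succ, map_pow, mul_assoc, hN, mul_zero]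
    · simp only [map_mul, map_pow, pow_add, ha]
      ring

end Groth.Agent.H11Norm.Pieces
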