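import Mathlib.AlgebraicGeometry.IdealSheaf.Subscheme
import Mathlib.AlgebraicGeometry.Noetherian
import Mathlib.Algebra.CharP.Lemmas
import Mathlib.RingTheory.Noetherian.Nilpotent
import Groth.Prelude.Def_Fitting

/-!
# The Frobenius norm of the reduction of a Noetherian scheme of characteristic `p`
-/

set_option autoImplicit false
set_option linter.style.haveILetI false

noncomputable section

universe u

open CategoryTheory AlgebraicGeometry Opposite TopologicalSpace

namespace Groth.Agent.H11Norm.Frobenius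

variable (X : Scheme.{u})

/-- Nilpotent sections of a Noetherian scheme have uniformly bounded order. -/
theorem exists_nilBound [IsNoetherian X] : ∃ n : ℕ, ∀ (U : X.Opens) (b : Γ(X, U)), IsNilpotent b → b ^ n = 0 := by
  classical
  choose W hW hxW hWle using fun x : X =>
    exists_isAffineOpen_mem_and_subset (U := (⊤ : X.Opens)) (x := x) trivial
  obtain ⟨S, hS⟩ := isCompact_univ.elim_finite_subcover (fun x => (W x : Set X))
    (fun x => (W x).isOpen) (fun x _ => Set.mem_iUnion.2 ⟨x, hxW x⟩)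
  have hn : ∀ x, ∃ n : ℕ, nilradical Γ(X, W x) ^ n = ⊥ := fun x => by
    haveI : IsNoetherianRing Γ(X, W x) := IsLocallyNoetherian.component_noetherian ⟨_, hW x⟩
    exact IsNoetherianRing.isNilpotent_nilradical Γ(X, W x)
  choose n hn using hn
  refine ⟨S.sup n, fun U b hb => TopCat.Presheaf.section_ext X.sheaf U _ _ fun y hy => ?_⟩
  change (X.presheaf.germ U y hy).hom (b ^ S.sup n) = (X.presheaf.germ U y hy).hom 0
  rw [map_pow, map_zero]
  obtain ⟨x, hx, hyx⟩ := Set.mem_iUnion₂.1 (hS (Set.mem_univ y))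
  obtain ⟨k, hk⟩ := hb.map (X.presheaf.germ U y hy).hom
  letI : Algebra Γ(X, W x) (X.presheaf.stalk y) := TopCat.Presheaf.algebra_section_stalk X.presheaf ⟨y, hyx⟩
  haveI := (hW x).isLocalization_stalk ⟨y, hyx⟩
  obtain ⟨a, s, has⟩ := IsLocalization.exists_mk'_eq
    ((hW x).primeIdealOf ⟨y, hyx⟩).asIdeal.primeCompl ((X.presheaf.germ U y hy).hom b)
  rw [← has, ← IsLocalization.mk'_pow, IsLocalization.mk'_eq_zero_iff] at hk
  obtain ⟨t, ht⟩ := hk
  have hnil : (t : Γ(X, W x)) * a ∈ nilradical Γ(X, W x) := mem_nilradical.2 ⟨k + 1, by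
    rw [pow_succ', mul_pow]
    linear_combination ((t : Γ(X, W x)) ^ k * a) * ht⟩
  have h0 : ((t : Γ(X, W x)) * a) ^ n x = 0 := (Ideal.mem_bot).1 ((hn x) ▸ Ideal.pow_mem_pow hnil (n x))
  refine pow_eq_zero_of_le (Finset.le_sup hx) ?_
  rw [← has, ← IsLocalization.mk'_pow, IsLocalization.mk'_eq_zero_iff]
  exact ⟨t ^ n x, by rw [SubmonoidClass.coe_pow, ← mul_pow, h0]⟩

variable {X}

/-- The reduction carries a norm of degree a power of `p`. -/
theorem exists_hasNorm [IsNoetherian X] (p : ℕ) (hp : p.Prime) (hpX : (p : Γ(X, ⊤)) = 0) :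
    ∃ e : ℕ, 0 < e ∧ Nrm.HasNorm X.nilradical.subschemeι (p ^ e) := by
  classical
  obtain ⟨n, hn⟩ := exists_nilBound X
  let e := n + 1
  let q := p ^ e
  have hnq : n ≤ q := (Nat.lt_pow_self hp.one_lt).le.trans (Nat.pow_le_pow_right hp.pos n.le_succ)
  let π := X.nilradical.subschemeι
  -- `a ^ q` only depends on the image of `a`
  have key : ∀ {V : X.affineOpens} (a b : Γ(X, V.1)), π.app V.1 a = π.app V.1 b → a ^ q = b ^ q := by
    intro V a b hab
    have h1 : a - b ∈ RingHom.ker (π.app V.1).hom := by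
      rw [RingHom.mem_ker, map_sub, sub_eq_zero]
      exact hab
    rw [X.nilradical.ker_subschemeι_app V] at h1
    have h2 : (a - b) ^ q = 0 := pow_eq_zero_of_le hnq (hn _ _ h1)
    rcases subsingleton_or_nontrivial Γ(X, V.1) with h | h
    · exact Subsingleton.elim _ _
    have h0 : (p : Γ(X, V.1)) = 0 := by
      rw [← map_natCast (X.presheaf.map (homOfLE (le_top : V.1 ≤ ⊤)).op).hom p, hpX, map_zero]
    haveI : CharP Γ(X, V.1) p := (CharP.charP_iff_prime_eq_zero hp).2 h0
    haveI := ExpChar.prime (R := Γ(X, V.1)) hp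
    rw [sub_pow_expChar_pow, sub_eq_zero] at h2
    exact h2
  have hres : ∀ {U V : X.Opens} (i : V ≤ U) (a : Γ(X, U)),
      π.app V (X.presheaf.map (homOfLE i).op a) = X.nilradical.subscheme.presheaf.map
        (homOfLE (π.preimage_mono i)).op (π.app U a) :=
    fun i a => congrArg (fun φ => φ.hom a) (π.naturality (homOfLE i).op)
  have ex : ∀ (U : X.Opens) (s : Γ(X.nilradical.subscheme, π ⁻¹ᵁ U)), ∃ t : Γ(X, U),
      ∀ (V : X.affineOpens) (h : V.1 ≤ U) (a : Γ(X, V.1)),
        π.app V.1 a = X.nilradical.subscheme.presheaf.map (homOfLE (π.preimage_mono h)).op s →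
          X.presheaf.map (homOfLE h).op t = a ^ q := by
    intro U s
    choose V hV hxV hVU' using fun x : U => exists_isAffineOpen_mem_and_subset (U := U) x.2
    have hVU : ∀ x, V x ≤ U := hVU'
    choose a ha using fun x : U => X.nilradical.subschemeι_app_surjective ⟨V x, hV x⟩
      (X.nilradical.subscheme.presheaf.map (homOfLE (π.preimage_mono (hVU x))).op s)
    have hagree : ∀ {V₁ V₂ : X.affineOpens} (h₁ : V₁.1 ≤ U) (h₂ : V₂.1 ≤ U) (a₁ : Γ(X, V₁.1)) (a₂ : Γ(X, V₂.1)),
        π.app V₁.1 a₁ = X.nilradical.subscheme.presheaf.map (homOfLE (π.preimage_mono h₁)).op s →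
        π.app V₂.1 a₂ = X.nilradical.subscheme.presheaf.map (homOfLE (π.preimage_mono h₂)).op s →
        X.presheaf.map (homOfLE (inf_le_left : V₁.1 ⊓ V₂.1 ≤ V₁.1)).op (a₁ ^ q) =
          X.presheaf.map (homOfLE (inf_le_right : V₁.1 ⊓ V₂.1 ≤ V₂.1)).op (a₂ ^ q) := by
      intro V₁ V₂ h₁ h₂ a₁ a₂ e₁ e₂
      refine TopCat.Presheaf.section_ext X.sheaf _ _ _ fun y hy => ?_
      obtain ⟨T, hT, hyT, hTle'⟩ := exists_isAffineOpen_mem_and_subset (U := V₁.1 ⊓ V₂.1) hy
      have hTle : T ≤ V₁.1 ⊓ V₂.1 := hTle'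
      have h := key (V := ⟨T, hT⟩) (X.presheaf.map (homOfLE (hTle.trans inf_le_left)).op a₁)
        (X.presheaf.map (homOfLE (hTle.trans inf_le_right)).op a₂) (by
          rw [hres, hres, e₁, e₂, ← CommRingCat.comp_apply, ← CommRingCat.comp_apply,
            ← Functor.map_comp, ← Functor.map_comp]
          rfl)
      rw [← map_pow, ← map_pow] at h
      have h' := congrArg (X.presheaf.germ T y hyT) h
      rw [TopCat.Presheaf.germ_res_apply, TopCat.Presheaf.germ_res_apply] at h'
      exact (TopCat.Presheaf.germ_res_apply X.presheaf _ y hy _).trans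
        (h'.trans (TopCat.Presheaf.germ_res_apply X.presheaf _ y hy _).symm)
    obtain ⟨t, ht, -⟩ := X.sheaf.existsUnique_gluing' V U (fun x => homOfLE (hVU x))
      (fun x hx => Opens.mem_iSup.2 ⟨⟨x, hx⟩, hxV ⟨x, hx⟩⟩) (fun x => a x ^ q) fun x y =>
        hagree (V₁ := ⟨V x, hV x⟩) (V₂ := ⟨V y, hV y⟩) (hVU x) (hVU y) (a x) (a y) (ha x) (ha y)
    refine ⟨t, fun W hW b hb => TopCat.Presheaf.section_ext X.sheaf _ _ _ fun y hy => ?_⟩
    let x : U := ⟨y, hW hy⟩
    have h' := congrArg (X.presheaf.germ (W.1 ⊓ V x) y ⟨hy, hxV x⟩)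
      (hagree (V₁ := W) (V₂ := ⟨V x, hV x⟩) hW (hVU x) b (a x) hb (ha x))
    have h'' : X.presheaf.map (homOfLE (hVU x)).op t = a x ^ q := ht x
    rw [TopCat.Presheaf.germ_res_apply, TopCat.Presheaf.germ_res_apply, ← h''] at h'
    exact (TopCat.Presheaf.germ_res_apply X.presheaf _ y hy t).trans
      (((TopCat.Presheaf.germ_res_apply X.presheaf _ y (hxV x) t).symm.trans h'.symm))
  choose N hN using ex
  have hext : ∀ (U : X.Opens) (t t' : Γ(X, U)), (∀ (V : X.affineOpens) (h : V.1 ≤ U),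
      X.presheaf.map (homOfLE h).op t = X.presheaf.map (homOfLE h).op t') → t = t' := by
    intro U t t' h
    refine TopCat.Presheaf.section_ext X.sheaf U t t' fun y hy => ?_
    obtain ⟨V, hV, hyV, hVU⟩ := exists_isAffineOpen_mem_and_subset (U := U) hy
    have h' := congrArg (X.presheaf.germ V y hyV) (h ⟨V, hV⟩ hVU)
    rwa [TopCat.Presheaf.germ_res_apply, TopCat.Presheaf.germ_res_apply] at h'
  have hlift : ∀ {U : X.Opens} (V : X.affineOpens) (h : V.1 ≤ U) (s : Γ(X.nilradical.subscheme, π ⁻¹ᵁ U)),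
      ∃ a : Γ(X, V.1), π.app V.1 a = X.nilradical.subscheme.presheaf.map (homOfLE (π.preimage_mono h)).op s :=
    fun V h s => X.nilradical.subschemeι_app_surjective V _
  refine ⟨e, Nat.succ_pos _, ⟨{
    one_le := Nat.one_le_pow _ _ hp.pos
    norm := fun U => { toFun := N U, map_one' := ?_, map_mul' := ?_ }
    norm_res := ?_
    norm_app := ?_
    norm_mem := ?_ }⟩⟩
  · refine hext U _ _ fun V h => ?_
    rw [hN U 1 V h 1 (by rw [map_one, map_one]), one_pow, map_one]
  · intro s s'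
    refine hext U _ _ fun V h => ?_
    obtain ⟨a, ha⟩ := hlift V h s
    obtain ⟨b, hb⟩ := hlift V h s'
    rw [hN U (s * s') V h (a * b) (by rw [map_mul, map_mul, ha, hb]), map_mul, hN U s V h a ha,
      hN U s' V h b hb, mul_pow]
  · intro U W i s
    refine hext W _ _ fun V h => ?_
    obtain ⟨a, ha⟩ := hlift V (h.trans (leOfHom i)) s
    refine Eq.trans ?_ (hN W _ V h a ?_).symm
    · change X.presheaf.map _ (X.presheaf.map i.op (N U s)) = _
      rw [← CommRingCat.comp_apply, ← Functor.map_comp]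
      exact hN U s V (h.trans (leOfHom i)) a ha
    · rw [ha]
      change _ = X.nilradical.subscheme.presheaf.map _ (X.nilradical.subscheme.presheaf.map _ s)
      rw [← CommRingCat.comp_apply, ← Functor.map_comp]
      rfl
  · intro U c
    refine hext U _ _ fun V h => ?_
    rw [map_pow]
    exact hN U _ V h _ (hres h c)
  · intro U s z hz hs
    obtain ⟨V, hV, hzV, hVU'⟩ := exists_isAffineOpen_mem_and_subset (U := U) hz
    have hVU : V ≤ U := hVU'
    obtain ⟨a, ha⟩ := hlift ⟨V, hV⟩ hVU s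
    change X.presheaf.germ U (π z) hz (N U s) ∈ _
    rw [← TopCat.Presheaf.germ_res_apply X.presheaf (homOfLE hVU) (π z) hzV, hN U s ⟨V, hV⟩ hVU a ha, map_pow]
    refine Ideal.pow_mem_of_mem _ ((IsLocalRing.mem_maximalIdeal _).2 fun hu => ?_) q (Nat.pow_pos hp.pos)
    have hu' := hu.map (π.stalkMap z).hom
    rw [Scheme.Hom.germ_stalkMap_apply π V z hzV, ha, TopCat.Presheaf.germ_res_apply] at hu'
    exact (IsLocalRing.mem_maximalIdeal _).1 hs hu'

end Groth.Agent.H11Norm.Frobenius
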