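import Groth.Agent.H11Norm.Free
import Groth.Agent.H17.TwoGlue
import Groth.Agent.H8Props.Generic
import Groth.Agent.H17.GenericStalk
import Groth.Agent.H10Coh.BaseChange

/-!
# Disjoint free pieces around the generic points of a reduced Noetherian scheme
-/

set_option autoImplicit false
set_option linter.style.haveILetI false

noncomputable section

universe u

open CategoryTheory CategoryTheory.Limits AlgebraicGeometry Opposite TopologicalSpace

namespace Groth.Agent.H11Norm

variable {X X' : Scheme.{u}}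

/-- A function on a reduced scheme vanishing on a dense open is zero. -/
theorem eq_of_dense [IsReduced X] {D : X.Opens} (hD : Dense (D : Set X)) {U : X.Opens} {s t : Γ(X, U)}
    (h : res (inf_le_left : U ⊓ D ≤ U) s = res (inf_le_left : U ⊓ D ≤ U) t) : s = t := by
  refine sub_eq_zero.1 ((AlgebraicGeometry.basicOpen_eq_bot_iff _).1 ?_)
  by_contra hne
  obtain ⟨x, hx⟩ : (X.basicOpen (s - t) : Set X).Nonempty := by
    rwa [Set.nonempty_iff_ne_empty, Ne, Opens.coe_eq_empty]
  obtain ⟨y, hy, hyD⟩ := hD.inter_open_nonempty _ (X.basicOpen (s - t)).isOpen ⟨x, hx⟩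
  have e : X.basicOpen (res (inf_le_left : U ⊓ D ≤ U) (s - t)) = ⊥ := by
    rw [show res (inf_le_left : U ⊓ D ≤ U) (s - t) = 0 by
      rw [res, map_sub]; exact sub_eq_zero.2 h]
    exact Scheme.basicOpen_zero _ _
  rw [Scheme.basicOpen_res] at e
  exact e.le ⟨⟨X.basicOpen_le _ hy, hyD⟩, hy⟩

/-- A point generic in an open: it lies in every non-empty smaller open. -/
def IsGenericIn (η : X) (W : X.Opens) : Prop :=
  η ∈ W ∧ ∀ O : X.Opens, O ≤ W → ∀ x ∈ O, η ∈ O

theorem IsGenericIn.eq_zero [IsReduced X] {η : X} {W : X.Opens} (hη : IsGenericIn η W) {U : X.Opens}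
    (hU : U ≤ W) (hηU : η ∈ U) {s : Γ(X, U)} (h : X.presheaf.germ U η hηU s = 0) : s = 0 := by
  refine (AlgebraicGeometry.basicOpen_eq_bot_iff _).1 ?_
  by_contra hne
  obtain ⟨x, hx⟩ : (X.basicOpen s : Set X).Nonempty := by
    rwa [Set.nonempty_iff_ne_empty, Ne, Opens.coe_eq_empty]
  have := (X.mem_basicOpen s η hηU).1 (hη.2 _ ((X.basicOpen_le s).trans hU) x hx)
  rw [h] at this
  exact not_isUnit_zero this

theorem IsGenericIn.mono {η : X} {W W' : X.Opens} (hη : IsGenericIn η W) (h : W' ≤ W) (hW' : η ∈ W') :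
    IsGenericIn η W' :=
  ⟨hW', fun O hO x hx => hη.2 O (hO.trans h) x hx⟩

theorem isGenericIn_of_isIntegral {η : X} (hη : η ∈ genericPoints X) {W : X.Opens} [IsIntegral W.toScheme]
    (hηW : η ∈ W) : IsGenericIn η W := by
  refine ⟨hηW, fun O _ x hx => ?_⟩
  have h1 : (genericPoint W.toScheme).1 ⤳ η := by
    exact ((genericPoint_spec W.toScheme).specializes (Set.mem_univ (⟨η, hηW⟩ : W.toScheme))).map W.ι.continuous
  have he : (genericPoint W.toScheme).1 = η := (H8Props.mem_genericPoints_iff.1 hη) _ h1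
  have hxW : x ∈ W := by
    have : O ≤ W := by assumption
    exact this hx
  have h2 : (genericPoint W.toScheme).1 ⤳ x := by
    exact ((genericPoint_spec W.toScheme).specializes (Set.mem_univ (⟨x, hxW⟩ : W.toScheme))).map W.ι.continuous
  rw [he] at h2
  exact h2.mem_open O.isOpen hx

/-- Finite modules over the functions of an integral affine open are free on a smaller non-empty open. -/
theorem exists_chart_le (g : X' ⟶ X) [IsFinite g] {W : X.Opens} (hW : IsAffineOpen W) [IsDomain Γ(X, W)]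
    [IsNoetherianRing Γ(X, W)] :
    ∃ (f : Γ(X, W)) (r : ℕ), f ≠ 0 ∧ IsChart g (X.basicOpen f) r := by
  let F := (Coh.push g).obj (Coh.structureModule X')
  have hF : Coh.IsQCoh F := by
    haveI : (Coh.structureModule X').IsQuasicoherent := H10Coh.isQuasicoherent_unit
    exact H10Coh.isQuasicoherent_pushforward_of_isAffineHom g _
  let e : Γ(F, W) → Γ(X', g ⁻¹ᵁ W) := fun a => a
  haveI : Module.Finite Γ(X, W) Γ(F, W) := by
    letI := alg g W
    haveI : Module.Finite Γ(X, W) Γ(X', g ⁻¹ᵁ W) := IsFinite.finite_app g W hW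
    exact Module.Finite.equiv
      ({ toFun := fun a => a
         invFun := fun a => a
         map_add' := fun _ _ => rfl
         map_smul' := fun _ _ => rfl
         left_inv := fun _ => rfl
         right_inv := fun _ => rfl } : Γ(X', g ⁻¹ᵁ W) ≃ₗ[Γ(X, W)] Γ(F, W))
  haveI : Module.FinitePresentation Γ(X, W) Γ(F, W) := Module.finitePresentation_of_finite _ _
  haveI : (⊥ : Ideal Γ(X, W)).IsPrime := Ideal.isPrime_bot
  haveI : Module.Free (Localization.AtPrime (⊥ : Ideal Γ(X, W)))
      (LocalizedModule (⊥ : Ideal Γ(X, W)).primeCompl Γ(F, W)) := by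
    haveI : IsFractionRing Γ(X, W) (Localization.AtPrime (⊥ : Ideal Γ(X, W))) := by
      have e : (⊥ : Ideal Γ(X, W)).primeCompl = nonZeroDivisors Γ(X, W) := by
        ext x
        simp [Ideal.primeCompl]
      show IsLocalization _ _
      rw [← e]
      infer_instance
    letI : Field (Localization.AtPrime (⊥ : Ideal Γ(X, W))) := IsFractionRing.toField Γ(X, W)
    exact Module.Free.of_divisionRing _ _
  obtain ⟨f, r, m, hf, hs, hi⟩ := H8Props.FinLocFree.exists_basis_upTo (M := Γ(F, W)) (⊥ : Ideal Γ(X, W))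
  haveI := H8Props.FinLocFree.isIso_basicHom F hF hW f m hs hi
  exact ⟨f, r, by simpa using hf, isChart_of_iso g (asIso (H29Fitt.basicHom F f m)).symm⟩

/-- Disjoint free pieces around the generic points. -/
structure Pieces (g : X' ⟶ X) where
  ι : Type
  [fin : Finite ι]
  W : ι → X.Opens
  η : ι → X
  r : ι → ℕ
  isChart : ∀ i, IsChart g (W i) (r i)
  generic : ∀ i, IsGenericIn (η i) (W i)
  isField : ∀ i, IsField (X.presheaf.stalk (η i))
  disjoint : ∀ i j, i ≠ j → W i ⊓ W j = ⊥
  dense : Dense ((⨆ i, W i : X.Opens) : Set X)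

attribute [instance] Pieces.fin

/-- The union of the pieces. -/
def Pieces.D {g : X' ⟶ X} (p : Pieces g) : X.Opens := ⨆ i, p.W i

theorem exists_pieces [IsNoetherian X] [IsReduced X] (g : X' ⟶ X) [IsFinite g] : Nonempty (Pieces g) := by
  classical
  have hfin : (genericPoints X).Finite := by
    have h : (irreducibleComponents X).Finite := NoetherianSpace.finite_irreducibleComponents
    haveI : Finite (irreducibleComponents X) := h.to_subtype
    haveI : Finite (genericPoints X) := Finite.of_equiv _ (genericPoints.equiv (α := X)).symm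
    exact Set.toFinite _
  obtain ⟨n, ⟨σ⟩⟩ := Finite.exists_equiv_fin (hfin.toFinset : Set X)
  let η : Fin n → X := fun i => (σ.symm i).1
  have hη : ∀ i, η i ∈ genericPoints X := fun i => hfin.mem_toFinset.1 (σ.symm i).2
  have hK : ∀ i, IsField (X.presheaf.stalk (η i)) := fun i =>
    H17.isField_stalk_generic X (hη i) inferInstance
  have key : ∀ i, ∃ (W : X.Opens) (r : ℕ), IsChart g W r ∧ IsGenericIn (η i) W := fun i => by
    haveI : IsDomain (X.presheaf.stalk (η i)) := (hK i).isDomain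
    obtain ⟨W₀, hη₀, hW₀, hint⟩ := H17.exists_isIntegral_nhd (η i) (Or.inl inferInstance)
    haveI := hint
    haveI : Nonempty W₀ := ⟨⟨η i, hη₀⟩⟩
    haveI : IsDomain Γ(X, W₀) := W₀.topIso.commRingCatIsoToRingEquiv.symm.toMulEquiv.isDomain Γ(W₀.toScheme, ⊤)
    haveI : IsNoetherianRing Γ(X, W₀) := IsLocallyNoetherian.component_noetherian ⟨W₀, hW₀⟩
    obtain ⟨f, r, hf, hc⟩ := exists_chart_le g hW₀
    have hg := isGenericIn_of_isIntegral (hη i) hη₀
    obtain ⟨x, hx⟩ : (X.basicOpen f : Set X).Nonempty := by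
      rw [Set.nonempty_iff_ne_empty, Ne, Opens.coe_eq_empty, AlgebraicGeometry.basicOpen_eq_bot_iff]
      exact hf
    exact ⟨_, r, hc, hg.mono (X.basicOpen_le f) (hg.2 _ (X.basicOpen_le f) x hx)⟩
  choose W r hc hgW using key
  refine ⟨{ ι := Fin n, W := W, η := η, r := r, isChart := hc, generic := hgW, isField := hK, disjoint := ?_,
            dense := ?_ }⟩
  · intro i j hij
    by_contra hne
    obtain ⟨x, hx⟩ : ((W i ⊓ W j : X.Opens) : Set X).Nonempty := by
      rwa [Set.nonempty_iff_ne_empty, Ne, Opens.coe_eq_empty]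
    have h1 := ((hgW i).2 _ inf_le_left x hx).2
    obtain ⟨O, hO⟩ : ∃ O : X.Opens, O = W i ⊓ W j := ⟨_, rfl⟩
    have h3 : η j ⤳ η i := by
      rw [specializes_iff_forall_open]
      intro s hs his
      exact ((hgW j).2 (W j ⊓ ⟨s, hs⟩) inf_le_left (η i) ⟨h1, his⟩).2
    exact hij (σ.symm.injective (Subtype.ext ((H8Props.mem_genericPoints_iff.1 (hη i)) _ h3).symm))
  · rw [dense_iff_inter_open]
    intro O hO ⟨x, hx⟩
    obtain ⟨ξ, hξ, hξx⟩ := H8Props.exists_genericPoints_specializes x
    refine ⟨ξ, hξx.mem_open hO hx, ?_⟩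
    obtain ⟨i, rfl⟩ : ∃ i, η i = ξ := ⟨σ ⟨ξ, hfin.mem_toFinset.2 hξ⟩, by simp [η]⟩
    exact Opens.mem_iSup.2 ⟨i, (hgW i).1⟩

end Groth.Agent.H11Norm
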