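import Groth.Agent.H11Norm.RelDescent
import Groth.Agent.H11Tilde.Gen
import Groth.Agent.H7Flat.LineCocycle
import Groth.Agent.H17.PullSect
import Groth.Agent.H17.GenFiniteDense

/-!
# The norm of an invertible module along a finite morphism
-/

set_option autoImplicit false
set_option linter.style.haveILetI false

noncomputable section

universe u

open CategoryTheory CategoryTheory.Limits AlgebraicGeometry Opposite TopologicalSpace
open Groth.Agent.H11Tilde Groth.Agent.H11Ample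

namespace Groth.Agent.H11Norm

variable {X X' : Scheme.{u}}

/-- A multiplicative norm, no normalisation on functions of the base. -/
structure NormMul (g : X' ⟶ X) where
  N : ∀ U : X.Opens, Γ(X', g ⁻¹ᵁ U) → Γ(X, U)
  map_one : ∀ U : X.Opens, N U 1 = 1
  map_mul : ∀ (U : X.Opens) (a b : Γ(X', g ⁻¹ᵁ U)), N U (a * b) = N U a * N U b
  natural : ∀ (U V : X.Opens) (h : V ≤ U) (a : Γ(X', g ⁻¹ᵁ U)),
    res h (N U a) = N V (res (g.preimage_mono h) a)
  reflects : ∀ (U : X.Opens) (a : Γ(X', g ⁻¹ᵁ U)) (x : X), x ∈ X.basicOpen (N U a) →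
    ∃ z : X', g z = x ∧ z ∈ X'.basicOpen a

variable {g : X' ⟶ X}

theorem NormMul.map_pow (d : NormMul g) (U : X.Opens) (a : Γ(X', g ⁻¹ᵁ U)) (k : ℕ) :
    d.N U (a ^ k) = d.N U a ^ k := by
  induction k with
  | zero => rw [pow_zero, pow_zero, d.map_one]
  | succ l ih => rw [pow_succ, pow_succ, d.map_mul, ih]

theorem NormMul.mem_basicOpen [IsFinite g] (d : NormMul g) {U : X.Opens} (a : Γ(X', g ⁻¹ᵁ U)) {x : X}
    (hx : x ∈ U) (ha : ∀ z : X', g z = x → z ∈ X'.basicOpen a) : x ∈ X.basicOpen (d.N U a) := by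
  let C : Set X := g '' ((X'.basicOpen a : Set X')ᶜ)
  have hC : IsClosed C := g.isClosedMap _ (X'.basicOpen a).isOpen.isClosed_compl
  let V : X.Opens := U ⊓ ⟨Cᶜ, hC.isOpen_compl⟩
  have hxV : x ∈ V := ⟨hx, fun ⟨z, hz, hzx⟩ => hz (ha z hzx)⟩
  have hle : g ⁻¹ᵁ V ≤ X'.basicOpen a := fun z hz => by
    by_contra hn
    exact hz.2 ⟨z, hn, rfl⟩
  obtain ⟨w, hw⟩ := isUnit_res_of_le (g.preimage_mono (inf_le_left : V ≤ U)) a hle
  have h1 : IsUnit (res (inf_le_left : V ≤ U) (d.N U a)) := by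
    rw [d.natural U V inf_le_left]
    refine IsUnit.of_mul_eq_one (d.N V (↑w⁻¹)) ?_
    rw [← d.map_mul, ← hw, Units.mul_inv, d.map_one]
  have h2 := Scheme.basicOpen_of_isUnit X h1
  rw [Scheme.basicOpen_res] at h2
  exact (h2.ge hxV).2

theorem IsChart.nrm_rank (hc : ∀ x : X, ∃ (U : X.Opens) (r : ℕ), x ∈ U ∧ IsChart g U r) [Surjective g] :
    Nonempty (NormMul g) := by
  classical
  choose U r hxU hc using hc
  have ex : ∀ (W : X.Opens) (a : Γ(X', g ⁻¹ᵁ W)), ∃! t : Γ(X, W), ∀ x : W,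
      res (inf_le_left : W ⊓ U x ≤ W) t = nrm g (r x) (W ⊓ U x) (res (g.preimage_mono inf_le_left) a) := by
    intro W a
    refine TopCat.Sheaf.existsUnique_gluing' X.sheaf (fun x : W => W ⊓ U x) W (fun x => homOfLE inf_le_left)
      (fun x hx => Opens.mem_iSup.2 ⟨⟨x, hx⟩, hx, hxU x⟩) _ (fun x y => ?_)
    change res inf_le_left _ = res inf_le_right _
    rw [(hc x).nrm_natural _ inf_le_right inf_le_left, (hc y).nrm_natural _ inf_le_right inf_le_right]
    rcases subsingleton_or_nontrivial Γ(X, (W ⊓ U x) ⊓ (W ⊓ U y)) with hs | hn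
    · exact Subsingleton.elim _ _
    have hr : r x = r y :=
      ((hc x).finrank_eq ((inf_le_left.trans inf_le_right) : (W ⊓ U x) ⊓ (W ⊓ U y) ≤ U x)).symm.trans
        ((hc y).finrank_eq ((inf_le_right.trans inf_le_right) : (W ⊓ U x) ⊓ (W ⊓ U y) ≤ U y))
    rw [hr]
    exact congrArg _ ((H10Coh.rres_rres _ _ _).trans (H10Coh.rres_rres _ _ _).symm)
  choose N hN huniq using ex
  refine ⟨⟨N, ?_, ?_, ?_, ?_⟩⟩
  · intro W
    refine (huniq W 1 1 fun i => ?_).symm
    rw [show res _ (1 : Γ(X', g ⁻¹ᵁ W)) = 1 from _root_.map_one _, nrm_one]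
    exact _root_.map_one _
  · intro W a b
    refine (huniq W (a * b) _ fun i => ?_).symm
    rw [show res _ (N W a * N W b) = res _ (N W a) * res _ (N W b) from _root_.map_mul _ _ _,
      hN, hN, ← nrm_mul]
    exact congrArg _ (_root_.map_mul (X'.presheaf.map (homOfLE (g.preimage_mono inf_le_left)).op).hom a b).symm
  · intro W V hV a
    refine huniq V _ _ fun x => ?_
    let x' : W := ⟨x, hV x.2⟩
    have h1 : V ⊓ U x ≤ W ⊓ U x := inf_le_inf_right _ hV
    have h2 := congrArg (res h1) (hN W a x')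
    rw [(hc x).nrm_natural _ inf_le_right h1] at h2
    refine (H10Coh.rres_rres _ _ _).trans ((H10Coh.rres_rres inf_le_left h1 _).symm.trans (h2.trans ?_))
    exact congrArg _ ((H10Coh.rres_rres _ _ _).trans (H10Coh.rres_rres _ _ _).symm)
  · intro W a x hx
    let x' : W := ⟨x, X.basicOpen_le _ hx⟩
    let V := W ⊓ U x
    haveI : Nonempty V := ⟨⟨x, x'.2, hxU x⟩⟩
    have hr0 := (hc x).rank_pos (inf_le_right : V ≤ U x)
    obtain ⟨b, hb⟩ := (hc x).exists_mul_eq hr0 dvd_rfl (inf_le_right : V ≤ U x)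
      (res (g.preimage_mono (inf_le_left : V ≤ W)) a)
    rw [← hN W a x'] at hb
    obtain ⟨z, hz⟩ := g.surjective x
    refine ⟨z, hz, ?_⟩
    have h2 : z ∈ g ⁻¹ᵁ X.basicOpen (res (inf_le_left : V ≤ W) (N W a)) := by
      change g z ∈ X.basicOpen _
      rw [hz, Scheme.basicOpen_res]
      exact ⟨⟨x'.2, hxU x⟩, hx⟩
    rw [Scheme.preimage_basicOpen, ← hb, Scheme.basicOpen_mul, Scheme.basicOpen_res] at h2
    exact h2.1.2

/-- Near a fibre of a finite morphism an invertible module is trivial. -/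
theorem exists_generator_fibre [IsFinite g] {L : X'.Modules} (hL : PicF.IsInvertible L) (x : X) :
    ∃ (V : X.Opens) (e : Γ(L, g ⁻¹ᵁ V)), x ∈ V ∧ IsGen L e := by
  classical
  haveI : L.IsQuasicoherent := H28Mero.isQCoh_of_isInvertible hL
  obtain ⟨U, hU, hxU, -⟩ := exists_isAffineOpen_mem_and_subset (U := (⊤ : X.Opens)) (x := x) trivial
  let U' := g ⁻¹ᵁ U
  have hU' : IsAffineOpen U' := hU.preimage g
  haveI : Finite (g ⁻¹' {x} : Set X') := (g.finite_preimage_singleton x).to_subtype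
  haveI := Fintype.ofFinite (g ⁻¹' {x} : Set X')
  let Zf := (g ⁻¹' {x} : Set X')
  have hmemU : ∀ z : Zf, z.1 ∈ U' := fun z => by
    change g z.1 ∈ U
    rw [show g z.1 = x from z.2]
    exact hxU
  have hspec : ∀ z w : Zf, z.1 ⤳ w.1 → z = w := fun z w h =>
    Subtype.ext (H17.GenFinite.eq_of_specializes_of_finite_fibre g (g.finite_preimage_singleton x) w.2 z.2 h)
  -- one section for each point, vanishing at the others
  have key : ∀ z : Zf, ∃ t : Γ(L, U'), ∀ (V : X'.Opens) (e : Γ(L, V)) (c : Γ(X', V)) (hV : V ≤ U'),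
      IsGen L e → L.presheaf.map (homOfLE hV).op t = c • e → ∀ w : Zf, ∀ hw : w.1 ∈ V,
        (IsUnit (X'.presheaf.germ V w.1 hw c) ↔ w = z) := by
    intro z
    obtain ⟨V₀, e₀, hz₀, he₀⟩ := exists_gen hL z.1
    let A : X'.Opens := V₀ ⊓ ⟨⋂ w ∈ {w : Zf | w ≠ z}, (closure {w.1})ᶜ,
      Set.Finite.isOpen_biInter (Set.toFinite _) fun w _ => isClosed_closure.isOpen_compl⟩
    have hzA : z.1 ∈ A := ⟨hz₀, Set.mem_iInter₂.2 fun w hw hmem =>
      hw (hspec w z (specializes_iff_mem_closure.2 hmem))⟩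
    obtain ⟨f, hf, hzf⟩ := hU'.exists_basicOpen_le (V := A) ⟨z.1, hzA⟩ (hmemU z)
    let e₁ := L.presheaf.map (homOfLE (hf.trans inf_le_left : X'.basicOpen f ≤ V₀)).op e₀
    have he₁ : IsGen L e₁ := he₀.res _
    obtain ⟨n, S, hS⟩ := H10Coh.exists_pow_smul_eq_res L hU' f e₁
    refine ⟨f • S, fun V e c hV he hc w hw => ⟨fun hu => ?_, ?_⟩⟩
    · have hwf : w.1 ∈ X'.basicOpen f := by
        rw [Scheme.Modules.map_smul] at hc
        obtain ⟨c₁, hc₁⟩ := exists_coeff he (L.presheaf.map (homOfLE hV).op S)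
        rw [hc₁, smul_smul] at hc
        have hcc : res hV f * c₁ = c := (he.bijective le_rfl).1 (by beta_reduce; rw [H10Coh.mres_self]; exact hc)
        rw [← hcc, map_mul] at hu
        have h1 := (X'.mem_basicOpen _ w.1 hw).2 (isUnit_of_mul_isUnit_left hu)
        rw [Scheme.basicOpen_res] at h1
        exact h1.2
      by_contra hne
      exact Set.mem_iInter₂.1 (hf hwf).2 w hne (subset_closure rfl)
    · rintro rfl
      have hle1 : V ⊓ X'.basicOpen f ≤ V := inf_le_left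
      have hle2 : V ⊓ X'.basicOpen f ≤ X'.basicOpen f := inf_le_right
      have hu1 : IsUnit (res (hle2.trans (X'.basicOpen_le f)) f ^ (n + 1)) :=
        (isUnit_res_of_le (hle2.trans (X'.basicOpen_le f)) f hle2).pow _
      have hgenS : IsGen L (L.presheaf.map (homOfLE (hle1.trans hV)).op (f • S)) := by
        have e1 : L.presheaf.map (homOfLE (hle1.trans hV)).op (f • S) =
            res (hle2.trans (X'.basicOpen_le f)) f ^ (n + 1) • L.presheaf.map (homOfLE hle2).op e₁ := by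
          have h0 := congrArg (L.presheaf.map (homOfLE hle2).op) hS
          rw [H10Coh.mres_mres, Scheme.Modules.map_smul] at h0
          rw [Scheme.Modules.map_smul, h0, smul_smul, pow_succ']
          refine congrArg (fun q => (res (hle2.trans (X'.basicOpen_le f)) f * q) •
            L.presheaf.map (homOfLE hle2).op e₁) ?_
          exact ((H10Coh.rres_rres _ _ _).trans (_root_.map_pow _ _ _))
        rw [e1]
        exact isGen_res he₁ hle2 hu1
      have h2 : L.presheaf.map (homOfLE (hle1.trans hV)).op (f • S) =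
          res hle1 c • L.presheaf.map (homOfLE hle1).op e := by
        have h2' := congrArg (L.presheaf.map (homOfLE hle1).op) hc
        rw [H10Coh.mres_mres] at h2'
        exact h2'.trans (Scheme.Modules.map_smul L _ c e)
      have hb := hgenS w.1 ⟨hw, hzf⟩
      rw [h2] at hb
      have h3 := (bijective_smul_iff (he.res hle1) (res hle1 c) (⟨hw, hzf⟩ : w.1 ∈ V ⊓ X'.basicOpen f)).1 hb
      rw [Scheme.basicOpen_res] at h3
      exact (X'.mem_basicOpen _ w.1 hw).1 h3.2
  choose t ht using key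
  let T := ∑ z, t z
  -- near each point of the fibre the sum generates
  have hloc : ∀ w : Zf, ∃ (B : X'.Opens) (hB : B ≤ U'), w.1 ∈ B ∧ IsGen L (L.presheaf.map (homOfLE hB).op T) := by
    intro w
    obtain ⟨V₀, e₀, hw₀, he₀⟩ := exists_gen hL w.1
    let V := V₀ ⊓ U'
    have hwV : w.1 ∈ V := ⟨hw₀, hmemU w⟩
    have he := he₀.res (inf_le_left : V ≤ V₀)
    choose c hc using fun z => exists_coeff he (L.presheaf.map (homOfLE (inf_le_right : V ≤ U')).op (t z))
    have hsum : L.presheaf.map (homOfLE (inf_le_right : V ≤ U')).op T =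
        (∑ z, c z) • L.presheaf.map (homOfLE (inf_le_left : V ≤ V₀)).op e₀ := by
      rw [Finset.sum_smul]
      exact (map_sum _ _ _).trans (Finset.sum_congr rfl fun z _ => hc z)
    have hu : IsUnit (X'.presheaf.germ V w.1 hwV (∑ z, c z)) := by
      rw [map_sum, ← Finset.add_sum_erase _ _ (Finset.mem_univ w)]
      have h1 := (ht w V _ (c w) inf_le_right he (hc w) w hwV).2 rfl
      have h2 : ∑ z ∈ Finset.univ.erase w, X'.presheaf.germ V w.1 hwV (c z) ∈
          IsLocalRing.maximalIdeal (X'.presheaf.stalk w.1) :=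
        Ideal.sum_mem _ fun z hz => (IsLocalRing.mem_maximalIdeal _).2 fun hu =>
          Finset.ne_of_mem_erase hz ((ht z V _ (c z) inf_le_right he (hc z) w hwV).1 hu).symm
      by_contra hn
      refine (IsLocalRing.mem_maximalIdeal _).1 ?_ h1
      have := Ideal.sub_mem _ ((IsLocalRing.mem_maximalIdeal _).2 hn) h2
      rwa [add_sub_cancel_right] at this
    refine ⟨X'.basicOpen (∑ z, c z), (X'.basicOpen_le _).trans inf_le_right,
      (X'.mem_basicOpen _ w.1 hwV).2 hu, ?_⟩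
    have h4 := isGen_basicOpen he (∑ z, c z)
    rw [← hsum, H10Coh.mres_mres] at h4
    exact h4
  choose B hB hwB hBgen using hloc
  let O : X'.Opens := ⨆ w, B w
  let C : Set X := g '' ((O : Set X')ᶜ)
  have hC : IsClosed C := g.isClosedMap _ O.isOpen.isClosed_compl
  let V : X.Opens := U ⊓ ⟨Cᶜ, hC.isOpen_compl⟩
  refine ⟨V, L.presheaf.map (homOfLE (g.preimage_mono (inf_le_left : V ≤ U))).op T,
    ⟨hxU, fun ⟨z, hz, hzx⟩ => hz (Opens.mem_iSup.2 ⟨⟨z, hzx⟩, hwB _⟩)⟩, fun y hy => ?_⟩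
  obtain ⟨w, hw⟩ := Opens.mem_iSup.1 (show y ∈ O by
    by_contra hn
    exact hy.2 ⟨y, hn, rfl⟩)
  have := hBgen w y hw
  rw [TopCat.Presheaf.germ_res_apply] at this ⊢
  exact this

/-- `M` is the norm of `L'` through families of generators. -/
structure NormFamily (d : NormMul g) (L' : X'.Modules) (M : X.Modules) where
  J : Type u
  V : J → X.Opens
  cover : ∀ x, ∃ j, x ∈ V j
  e : ∀ j, Γ(L', g ⁻¹ᵁ V j)
  ε : ∀ j, Γ(M, V j)
  gen_e : ∀ j, IsGen L' (e j)
  gen_ε : ∀ j, IsGen M (ε j)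
  compat : ∀ a b, ∃ c : Γ(X', g ⁻¹ᵁ (V a ⊓ V b)),
    L'.presheaf.map (homOfLE (g.preimage_mono (inf_le_right : V a ⊓ V b ≤ V b))).op (e b) =
        c • L'.presheaf.map (homOfLE (g.preimage_mono (inf_le_left : V a ⊓ V b ≤ V a))).op (e a) ∧
      M.presheaf.map (homOfLE (inf_le_right : V a ⊓ V b ≤ V b)).op (ε b) =
        d.N _ c • M.presheaf.map (homOfLE (inf_le_left : V a ⊓ V b ≤ V a)).op (ε a)

/-- Existence of the norm of an invertible module. -/
theorem exists_normFamily [IsFinite g] (d : NormMul g) {L' : X'.Modules} (hL : PicF.IsInvertible L') :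
    ∃ (M : X.Modules) (_ : PicF.IsInvertible M), Nonempty (NormFamily d L' M) := by
  classical
  choose V e hxV he using exists_generator_fibre (g := g) hL
  have hT : ∀ a b (T : X.Opens) (ha : T ≤ V a) (hb : T ≤ V b), ∃ c : Γ(X', g ⁻¹ᵁ T),
      L'.presheaf.map (homOfLE (g.preimage_mono hb)).op (e b) =
        c • L'.presheaf.map (homOfLE (g.preimage_mono ha)).op (e a) :=
    fun a b T ha hb => exists_coeff ((he a).res (g.preimage_mono ha)) _
  choose c hc using hT
  have huniq : ∀ a b (T : X.Opens) (ha : T ≤ V a) (hb : T ≤ V b) (q : Γ(X', g ⁻¹ᵁ T)),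
      L'.presheaf.map (homOfLE (g.preimage_mono hb)).op (e b) =
        q • L'.presheaf.map (homOfLE (g.preimage_mono ha)).op (e a) → c a b T ha hb = q := fun a b T ha hb q hq =>
    (((he a).res (g.preimage_mono ha)).bijective le_rfl).1
      (by beta_reduce; rw [H10Coh.mres_self]; exact (hc a b T ha hb).symm.trans hq)
  have hres : ∀ a b (T T' : X.Opens) (h : T' ≤ T) (ha : T ≤ V a) (hb : T ≤ V b),
      res (g.preimage_mono h) (c a b T ha hb) = c a b T' (h.trans ha) (h.trans hb) := fun a b T T' h ha hb => by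
    refine (huniq a b T' _ _ _ ?_).symm
    have h0 := congrArg (L'.presheaf.map (homOfLE (g.preimage_mono h)).op) (hc a b T ha hb)
    rw [H10Coh.mres_mres, Scheme.Modules.map_smul, H10Coh.mres_mres] at h0
    exact h0
  have hmul : ∀ a b k (T : X.Opens) (ha : T ≤ V a) (hb : T ≤ V b) (hk : T ≤ V k),
      c a b T ha hb * c b k T hb hk = c a k T ha hk := fun a b k T ha hb hk => by
    refine (huniq a k T ha hk _ ?_).symm
    rw [hc b k T hb hk, hc a b T ha hb, smul_smul, mul_comm]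
  let D : H7Flat.LineCocycle.Data X :=
    { J := X
      V := V
      g := fun a b => d.N (V a ⊓ V b) (c a b _ inf_le_left inf_le_right)
      isUnit := fun a b => by
        refine IsUnit.of_mul_eq_one (d.N (V a ⊓ V b) (c b a _ inf_le_right inf_le_left)) ?_
        rw [← d.map_mul, hmul a b a _ inf_le_left inf_le_right inf_le_left,
          huniq a a _ inf_le_left inf_le_left 1 (one_smul _ _).symm, d.map_one]
      cocycle := fun a b k T ha hb hk => by
        change res (le_inf ha hb) _ * res (le_inf hb hk) _ = res (le_inf ha hk) _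
        rw [d.natural _ T (le_inf ha hb), d.natural _ T (le_inf hb hk), d.natural _ T (le_inf ha hk), ← d.map_mul,
          hres _ _ _ T (le_inf ha hb), hres _ _ _ T (le_inf hb hk), hres _ _ _ T (le_inf ha hk)]
        exact congrArg _ (hmul a b k T ha hb hk)
      cover := fun x => ⟨x, hxV x⟩ }
  refine ⟨_, H7Flat.LineCocycle.isInvertible_line D, ⟨⟨X, V, fun x => ⟨x, hxV x⟩, e,
    H7Flat.LineCocycle.gen D, he, H7Flat.LineCocycle.isGen_gen D, fun a b => ?_⟩⟩⟩
  refine ⟨c a b _ inf_le_left inf_le_right, hc a b _ inf_le_left inf_le_right, ?_⟩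
  refine (H7Flat.LineCocycle.gen_trans D a b (V a ⊓ V b) inf_le_left inf_le_right).trans ?_
  exact congrArg (· • _) (H7Flat.LineCocycle.rr_self _ _)

/-- The norm of a section of a power. -/
theorem exists_normMul_section [IsFinite g] {d : NormMul g} {L' : X'.Modules} {M : X.Modules}
    (F : NormFamily d L' M) (k : ℕ) (s : Γ(CohB1.tensorPow L' k, ⊤)) :
    ∃ t : Γ(CohB1.tensorPow M k, ⊤),
      (∀ x : X, (∀ z : X', g z = x → z ∈ gen _ s) → x ∈ gen _ t) ∧
      ∀ x ∈ gen _ t, ∃ z : X', g z = x ∧ z ∈ gen _ s := by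
  classical
  let Q := CohB1.tensorPow L' k
  choose α hα using fun a => exists_coeff (isGen_spow (F.gen_e a) k)
    (Q.presheaf.map (homOfLE (le_top : g ⁻¹ᵁ F.V a ≤ ⊤)).op s)
  let P := CohB1.tensorPow M k
  obtain ⟨t, ht, -⟩ := TopCat.Sheaf.existsUnique_gluing' (H10Coh.sheafOf P) F.V ⊤ (fun _ => homOfLE le_top)
    (fun x _ => Opens.mem_iSup.2 (F.cover x)) (fun a => d.N (F.V a) (α a) • spow (F.ε a) k) (fun a b => by
      obtain ⟨c, hce, hcε⟩ := F.compat a b
      let W := F.V a ⊓ F.V b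
      change P.presheaf.map (homOfLE (inf_le_left : W ≤ F.V a)).op _ =
        P.presheaf.map (homOfLE (inf_le_right : W ≤ F.V b)).op _
      rw [Scheme.Modules.map_smul, Scheme.Modules.map_smul, spow_res, spow_res, hcε, spow_smul, smul_smul]
      refine congrArg (· • _) ?_
      change res (inf_le_left : W ≤ F.V a) (d.N _ _) = res (inf_le_right : W ≤ F.V b) (d.N _ _) * _
      rw [d.natural _ W, d.natural _ W, ← d.map_pow, ← d.map_mul]
      refine congrArg _ ?_
      have ha := congrArg (Q.presheaf.map (homOfLE (g.preimage_mono (inf_le_left : W ≤ F.V a))).op) (hα a)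
      have hb := congrArg (Q.presheaf.map (homOfLE (g.preimage_mono (inf_le_right : W ≤ F.V b))).op) (hα b)
      rw [Scheme.Modules.map_smul, spow_res, H10Coh.mres_mres] at ha hb
      rw [hce, spow_smul, smul_smul] at hb
      refine ((isGen_spow ((F.gen_e a).res (g.preimage_mono (inf_le_left : W ≤ F.V a))) k).bijective le_rfl).1 ?_
      beta_reduce
      rw [H10Coh.mres_self]
      exact ha.symm.trans hb)
  have hgt : ∀ a, gen P t ⊓ F.V a = X.basicOpen (d.N (F.V a) (α a)) :=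
    fun a => gen_inf_eq_basicOpen (isGen_spow (F.gen_ε a) k) t _ (ht a)
  have hgs : ∀ a, gen _ s ⊓ g ⁻¹ᵁ F.V a = X'.basicOpen (α a) :=
    fun a => gen_inf_eq_basicOpen (isGen_spow (F.gen_e a) k) s _ (hα a)
  refine ⟨t, fun x hx => ?_, fun x hx => ?_⟩
  · obtain ⟨a, ha⟩ := F.cover x
    refine ((hgt a).ge (d.mem_basicOpen _ ha fun z hz => (hgs a).le ⟨hx z hz, ?_⟩)).1
    change g z ∈ F.V a
    rw [hz]
    exact ha
  · obtain ⟨a, ha⟩ := F.cover x
    obtain ⟨z, hz, hzs⟩ := d.reflects (F.V a) (α a) x ((hgt a).le ⟨hx, ha⟩)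
    exact ⟨z, hz, ((hgs a).ge hzs).1⟩

/-- The norm of an ample module is ample. -/
theorem isAmple_of_normFamily [IsFinite g] [CompactSpace X] {d : NormMul g} {L' : X'.Modules} {M : X.Modules}
    (hM : PicF.IsInvertible M) (F : NormFamily d L' M) (hA : CohB1.IsAmple L') : CohB1.IsAmple M := by
  haveI : CompactSpace X' := compactSpace_of_isAmple hA
  haveI : QuasiSeparatedSpace X' := quasiSeparatedSpace_of_isAmple hA
  refine isAmple_of_gen_isQuasiAffine hM fun x => ?_
  obtain ⟨a, ha⟩ := F.cover x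
  obtain ⟨U, hU, hxU, hUV⟩ := exists_isAffineOpen_mem_and_subset (U := F.V a) ha
  have hfin : (g ⁻¹' {x}).Finite := g.finite_preimage_singleton x
  obtain ⟨k, s, hk, hZs, hsU, -⟩ := exists_affine_gen_nhd_finite hA hfin (U := g ⁻¹ᵁ U)
    (fun z (hz : g z = x) => show g z ∈ U by rw [hz]; exact hxU)
  obtain ⟨t, ht1, ht2⟩ := exists_normMul_section F k s
  refine ⟨k, t, hk, ht1 x fun z hz => hZs hz, ?_⟩
  have hle : gen _ t ≤ U := by
    intro y hy
    obtain ⟨z, rfl, hz⟩ := ht2 y hy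
    exact hsU hz
  have haff := isAffineOpen_gen_inf hU (isGen_spow ((F.gen_ε a).res (show U ≤ F.V a from hUV)) k) t
  rw [inf_eq_left.2 hle] at haff
  haveI : IsAffine (gen _ t).toScheme := haff
  infer_instance

section Restrict

theorem rres3 {U₁ U₂ U₃ U₄ : X'.Opens} (h₁ : U₂ ≤ U₁) (h₂ : U₃ ≤ U₂) (h₃ : U₄ ≤ U₃) (h : U₄ ≤ U₁)
    (c : Γ(X', U₁)) :
    res h₃ (res h₂ (res h₁ c)) = res h c :=
  (H10Coh.rres_rres h₂ h₃ _).trans (H10Coh.rres_rres h₁ (h₃.trans h₂) c)

variable {W : X.Opens}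

/-- The norm of `g ∣_ W`. -/
def NormMul.restrict (d : NormMul g) (W : X.Opens) : NormMul (g ∣_ W) where
  N U a := d.N (W.ι ''ᵁ U) (res (X := X') (le_of_eq (image_morphismRestrict_preimage g W U).symm) a)
  map_one U := (congrArg _ (_root_.map_one _)).trans (d.map_one _)
  map_mul U a b := (congrArg _ (_root_.map_mul _ _ _)).trans (d.map_mul _ _ _)
  natural U V h' a := by
    refine (d.natural (W.ι ''ᵁ U) (W.ι ''ᵁ V) (W.ι.image_mono h') _).trans ?_
    exact congrArg _ ((H10Coh.rres_rres _ _ _).trans (H10Coh.rres_rres (X := X') _ _ _).symm)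
  reflects U a x hx := by
    have hx' := (Scheme.Opens.mem_basicOpen_toScheme (U := W) (V := U)).1 hx
    obtain ⟨z, hz, hzb⟩ := d.reflects _ _ _ hx'
    have hzW : z ∈ g ⁻¹ᵁ W := by
      change g z ∈ W
      rw [hz]
      exact x.2
    refine ⟨⟨z, hzW⟩, Subtype.ext ((morphismRestrict_base_coe g W _).trans hz), ?_⟩
    exact Scheme.Opens.mem_basicOpen_toScheme.2 ((X'.basicOpen_res _ _).le hzb).2

theorem preimage_restrict_eq (V : X.Opens) :
    (g ∣_ W) ⁻¹ᵁ (W.ι ⁻¹ᵁ V) = (g ⁻¹ᵁ W).ι ⁻¹ᵁ (g ⁻¹ᵁ V) := by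
  rw [← Scheme.Hom.comp_preimage, morphismRestrict_ι, Scheme.Hom.comp_preimage]

/-- The family of a norm restricts to an open. -/
theorem exists_normFamily_restrict {d : NormMul g} {L' : X'.Modules} {M : X.Modules} (F : NormFamily d L' M) :
    Nonempty (NormFamily (d.restrict W) ((Scheme.Modules.pullback (g ⁻¹ᵁ W).ι).obj L')
      ((Scheme.Modules.pullback W.ι).obj M)) := by
  let L'' := (Scheme.Modules.pullback (g ⁻¹ᵁ W).ι).obj L'
  let M' := (Scheme.Modules.pullback W.ι).obj M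
  have hle : ∀ V, (g ∣_ W) ⁻¹ᵁ (W.ι ⁻¹ᵁ V) ≤ (g ⁻¹ᵁ W).ι ⁻¹ᵁ (g ⁻¹ᵁ V) := fun V => (preimage_restrict_eq V).le
  refine ⟨⟨F.J, fun a => W.ι ⁻¹ᵁ F.V a, fun x => F.cover _,
    fun a => L''.presheaf.map (homOfLE (hle (F.V a))).op (OmegaSh.pullSect _ L' (g ⁻¹ᵁ F.V a) (F.e a)),
    fun a => OmegaSh.pullSect W.ι M (F.V a) (F.ε a), fun a => ((IsGen.pullSect _ (F.gen_e a))).res _,
    fun a => IsGen.pullSect _ (F.gen_ε a), fun a b => ?_⟩⟩
  obtain ⟨c, hce, hcε⟩ := F.compat a b
  let T := F.V a ⊓ F.V b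
  change ∃ c' : Γ((g ⁻¹ᵁ W).toScheme, (g ∣_ W) ⁻¹ᵁ (W.ι ⁻¹ᵁ T)), _
  refine ⟨res (hle T) ((g ⁻¹ᵁ W).ι.app (g ⁻¹ᵁ T) c), ?_, ?_⟩
  · have h0 := congrArg (OmegaSh.pullSect (g ⁻¹ᵁ W).ι L' (g ⁻¹ᵁ T)) hce
    rw [OmegaSh.pullSect_smul, pullSect_res, pullSect_res] at h0
    have h1 := congrArg (L''.presheaf.map (homOfLE (hle T)).op) h0
    rw [H10Coh.mres_mres, Scheme.Modules.map_smul, H10Coh.mres_mres] at h1
    change L''.presheaf.map _ (L''.presheaf.map _ _) = _ • L''.presheaf.map _ (L''.presheaf.map _ _)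
    rw [H10Coh.mres_mres, H10Coh.mres_mres]
    exact h1
  · have h0 := congrArg (OmegaSh.pullSect W.ι M T) hcε
    rw [OmegaSh.pullSect_smul, pullSect_res, pullSect_res] at h0
    refine h0.trans (congrArg (· • _) ?_)
    have hT : W.ι ''ᵁ (W.ι ⁻¹ᵁ T) ≤ T := W.ι.image_preimage_le T
    rw [Scheme.Opens.ι_app]
    refine (d.natural T _ hT c).trans ?_
    change d.N _ _ = d.N _ _
    refine congrArg _ ?_
    rw [Scheme.Opens.ι_app]
    exact (rres3 ((g ⁻¹ᵁ W).ι.image_preimage_le _) ((g ⁻¹ᵁ W).ι.image_mono (hle T)) _ _ c).symm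

end Restrict

/-- The norm of a relatively ample module is relatively ample. -/
theorem exists_isRelAmple_of_normMul {Y : Scheme.{u}} (f : X ⟶ Y) [QuasiCompact f] [IsFinite g]
    (d : NormMul g) {L' : X'.Modules} (h : RelAmple.IsRelAmple (g ≫ f) L') :
    ∃ M : X.Modules, PicF.IsInvertible M ∧ RelAmple.IsRelAmple f M := by
  obtain ⟨M, hM, ⟨F⟩⟩ := exists_normFamily d (isInvertible_of_isRelAmple h)
  refine ⟨M, hM, isRelAmple_iff.2 ⟨inferInstance, fun V hV => ?_⟩⟩
  let W := f ⁻¹ᵁ V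
  obtain ⟨F'⟩ := exists_normFamily_restrict (W := W) F
  haveI : CompactSpace W.toScheme := isCompact_iff_compactSpace.1 (f.isCompact_preimage (U := V) hV.isCompact)
  haveI : IsFinite (g ∣_ W) := MorphismProperty.of_isPullback (isPullback_morphismRestrict g W).flip inferInstance
  have h1 := (isRelAmple_iff.1 h).2 V hV
  rw [Scheme.Hom.comp_preimage] at h1
  exact isAmple_of_normFamily (isInvertible_pullback W.ι hM) F' h1

end Groth.Agent.H11Norm
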