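import Groth.Agent.H11Norm.Spec
import Groth.Agent.H11Norm.RelNorm
import Mathlib.AlgebraicGeometry.Noetherian

/-!
# A finite birational model on which norms exist (EGA II 6.6)
-/

set_option autoImplicit false
set_option linter.style.haveILetI false

noncomputable section

universe u

open CategoryTheory CategoryTheory.Limits AlgebraicGeometry Opposite TopologicalSpace
open Groth.Agent.H7Lim.Approx

namespace Groth.Agent.H11Norm

/-- Generators over an affine open. -/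
structure Gens {X X' : Scheme.{u}} (g : X' ⟶ X) where
  V : X.affineOpens
  m : ℕ
  a : Fin m → Γ(X', g ⁻¹ᵁ V.1)
  span : ∀ y : Γ(X', g ⁻¹ᵁ V.1), ∃ c : Fin m → Γ(X, V.1), y = ∑ j, g.app V.1 (c j) * a j

/-- Locally a section is a base function times a section from a larger affine open. -/
theorem exists_local_fraction {X X' : Scheme.{u}} {g : X' ⟶ X} [IsAffineHom g] (G : Gens g) (f : Γ(X, G.V.1))
    (a : Γ(X', g ⁻¹ᵁ X.basicOpen f)) :
    ∃ (n : ℕ) (a' : Γ(X', g ⁻¹ᵁ G.V.1)),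
      g.app (X.basicOpen f) (res (X.basicOpen_le f) (f ^ n)) * a =
        res (g.preimage_mono (X.basicOpen_le f)) a' := by
  obtain ⟨n, a', -, ha⟩ := (Sub.top g).exists_mul G.V f a (Subring.mem_top _)
  refine ⟨n, a', ?_⟩
  refine Eq.trans ?_ ha.symm
  rw [← map_pow, rX_app, mul_comm]

namespace Pieces

variable {X X' : Scheme.{u}} {g : X' ⟶ X} (p : Pieces g) {Z : Scheme.{u}} {h : Z ⟶ X}
  {e : p.D.toScheme ⟶ Z} (he : e ≫ h = p.D.ι)

/-- The value of a function of the model at a generic point. -/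
def ez (i : p.ι) (U : X.Opens) (hi : p.η i ∈ U) : Γ(Z, h ⁻¹ᵁ U) →+* X.presheaf.stalk (p.η i) :=
  (p.ev i U hi).comp (e.appLE (h ⁻¹ᵁ U) (p.D.ι ⁻¹ᵁ U) (preimage_le h p.D.ι he U)).hom

theorem ez_app (i : p.ι) (U : X.Opens) (hi : p.η i ∈ U) (c : Γ(X, U)) :
    p.ez he i U hi (h.app U c) = X.presheaf.germ U (p.η i) hi c := by
  change p.ev i U hi (e.appLE _ _ _ (h.app U c)) = _
  rw [← p.ev_app i U hi c]
  refine congrArg _ ?_
  rw [← CommRingCat.comp_apply, Scheme.Hom.app_eq_appLE, Scheme.Hom.app_eq_appLE,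
    Scheme.Hom.appLE_comp_appLE]
  simp only [he]

theorem ez_res (i : p.ι) {U V : X.Opens} (hUV : U ≤ V) (hi : p.η i ∈ U) (b : Γ(Z, h ⁻¹ᵁ V)) :
    p.ez he i U hi (res (h.preimage_mono hUV) b) = p.ez he i V (hUV hi) b := by
  change p.ev i U hi (e.appLE _ _ _ _) = p.ev i V (hUV hi) _
  refine Eq.trans (congrArg _ ?_) (p.ev_res i hUV hi _)
  rw [← CommRingCat.comp_apply, Scheme.Hom.map_appLE]
  change _ = (e.appLE _ _ _ ≫ p.D.toScheme.presheaf.map (homOfLE (p.D.ι.preimage_mono hUV)).op) b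
  rw [Scheme.Hom.appLE_map]

variable [QuasiCompact p.D.ι] [QuasiSeparated p.D.ι] {J : Sub p.D.ι} (hspec : J.IsSpec h e)

include hspec

set_option linter.unusedSectionVars false

theorem exists_pre (U : X.affineOpens) {b : p.dsec U.1} (hb : b ∈ J.S U) :
    ∃ z : Γ(Z, h ⁻¹ᵁ U.1), ∀ (i : p.ι) (hi : p.η i ∈ U.1), p.ez hspec.fac i U.1 hi z = p.ev i U.1 hi b := by
  obtain ⟨z, hz⟩ := (hspec.range_eq U).ge hb
  exact ⟨z, fun i hi => congrArg (p.ev i U.1 hi) hz⟩

theorem ez_ext [IsReduced X] {U : X.Opens} {s t : Γ(Z, h ⁻¹ᵁ U)}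
    (H : ∀ (i : p.ι) (hi : p.η i ∈ U), p.ez hspec.fac i U hi s = p.ez hspec.fac i U hi t) : s = t := by
  refine TopCat.Presheaf.section_ext Z.sheaf (h ⁻¹ᵁ U) s t fun x hx => ?_
  obtain ⟨B, hB, hxB, hBU⟩ := exists_isAffineOpen_mem_and_subset (U := U) (x := h x) hx
  have key : res (h.preimage_mono (show B ≤ U from hBU)) s = res (h.preimage_mono (show B ≤ U from hBU)) t := by
    refine hspec.injective ⟨B, hB⟩ (p.dsec_ext fun i hi => ?_)
    refine ((p.ez_res hspec.fac i (show B ≤ U from hBU) hi s).trans (H i (hBU hi))).trans ?_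
    exact (p.ez_res hspec.fac i (show B ≤ U from hBU) hi t).symm
  have h2 := congrArg (Z.presheaf.germ (h ⁻¹ᵁ B) x hxB) key
  exact (TopCat.Presheaf.germ_res_apply Z.presheaf _ _ hxB s).symm.trans
    (h2.trans (TopCat.Presheaf.germ_res_apply Z.presheaf _ _ hxB t))

theorem isIntegralHom_of_le (hJ : J ≤ p.intSub) : IsIntegralHom h := by
  haveI := hspec.isAffineHom
  refine ⟨fun U hU x => ?_⟩
  let α := (e.appLE (h ⁻¹ᵁ U) (p.D.ι ⁻¹ᵁ U) (preimage_le h p.D.ι hspec.fac U)).hom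
  obtain ⟨q, hq, hq0⟩ := p.mem_intRing.1 (hJ ⟨U, hU⟩ ((hspec.range_eq ⟨U, hU⟩).le ⟨x, rfl⟩))
  refine ⟨q, hq, hspec.injective ⟨U, hU⟩ ?_⟩
  change α _ = α 0
  rw [map_zero, Polynomial.hom_eval₂]
  have hc : α.comp (h.app U).hom = (p.D.ι.app U).hom := by
    refine RingHom.ext fun s => ?_
    change e.appLE _ _ _ (h.app U s) = _
    rw [← CommRingCat.comp_apply, Scheme.Hom.app_eq_appLE, Scheme.Hom.app_eq_appLE,
      Scheme.Hom.appLE_comp_appLE]
    simp only [hspec.fac]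
  rw [hc]
  exact hq0

theorem isReduced_spec [IsReduced X] : IsReduced Z := by
  haveI := hspec.isAffineHom
  haveI : ∀ x : Z, _root_.IsReduced (Z.presheaf.stalk x) := fun x => by
    obtain ⟨B, hB, hxB, -⟩ := exists_isAffineOpen_mem_and_subset (U := (⊤ : X.Opens)) (x := h x) trivial
    haveI : _root_.IsReduced Γ(Z, h ⁻¹ᵁ B) := by
      haveI : IsReduced p.D.toScheme := isReduced_of_isOpenImmersion p.D.ι
      exact isReduced_of_injective
        (e.appLE (h ⁻¹ᵁ B) (p.D.ι ⁻¹ᵁ B) (preimage_le h p.D.ι hspec.fac B)).hom (hspec.injective ⟨B, hB⟩)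
    letI := Z.presheaf.algebra_section_stalk (U := h ⁻¹ᵁ B) ⟨x, hxB⟩
    haveI := (hB.preimage h).isLocalization_stalk ⟨x, hxB⟩
    exact isReduced_localizationPreserves ((hB.preimage h).primeIdealOf ⟨x, hxB⟩).asIdeal.primeCompl
      (Z.presheaf.stalk x) inferInstance
  exact isReduced_of_isReduced_stalk Z

theorem dense_preimage [IsReduced X] : Dense ((h ⁻¹ᵁ p.D : Z.Opens) : Set Z) := by
  haveI := hspec.isAffineHom
  rw [dense_iff_inter_open]
  intro O hO ⟨x, hx⟩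
  by_contra hne
  obtain ⟨B, hB, hxB, -⟩ := exists_isAffineOpen_mem_and_subset (U := (⊤ : X.Opens)) (x := h x) trivial
  obtain ⟨f, hf, hxf⟩ := (hB.preimage h).exists_basicOpen_le (V := ⟨O, hO⟩) ⟨x, hx⟩ hxB
  haveI : IsReduced p.D.toScheme := isReduced_of_isOpenImmersion p.D.ι
  have h1 : p.D.toScheme.basicOpen (e.appLE (h ⁻¹ᵁ B) (p.D.ι ⁻¹ᵁ B) (preimage_le h p.D.ι hspec.fac B) f) = ⊥ := by
    rw [Scheme.basicOpen_appLE, eq_bot_iff]
    rintro d ⟨-, hd⟩
    refine hne ⟨e d, hf hd, ?_⟩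
    change h (e d) ∈ p.D
    rw [← Scheme.Hom.comp_apply, hspec.fac]
    exact d.2
  have h2 := (AlgebraicGeometry.basicOpen_eq_bot_iff _).1 h1
  have h3 : f = 0 := hspec.injective ⟨B, hB⟩ (h2.trans (map_zero _).symm)
  rw [h3, Scheme.basicOpen_zero] at hxf
  exact hxf

omit hspec

include hspec

/-- The norm of a section over one of the given affines. -/
theorem exists_norm_gens [IsReduced X] (G : Gens g)
    (hG : ∀ μ ∈ p.expo G.V.1 G.a, p.coeffSec G.V.1 G.a μ ∈ J.S G.V) (c : Fin G.m → Γ(X, G.V.1)) :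
    ∃ y : (Fin G.m →₀ ℕ) → Γ(Z, h ⁻¹ᵁ G.V.1), (∀ μ, p.coeffSec G.V.1 G.a μ = 0 → y μ = 0) ∧
      ∀ (i : p.ι) (hi : p.η i ∈ G.V.1),
        p.ez hspec.fac i G.V.1 hi (∑ μ ∈ p.expo G.V.1 G.a, h.app G.V.1 (∏ j, c j ^ μ j) * y μ) =
          p.nev i G.V.1 hi (∑ j, g.app G.V.1 (c j) * G.a j) := by
  classical
  choose y hy using fun μ : p.expo G.V.1 G.a => p.exists_pre hspec G.V (hG μ.1 μ.2)
  refine ⟨fun μ => if hμ : μ ∈ p.expo G.V.1 G.a ∧ p.coeffSec G.V.1 G.a μ ≠ 0 then y ⟨μ, hμ.1⟩ else 0,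
    fun μ hμ => dif_neg (fun h' => h'.2 hμ), fun i hi => ?_⟩
  rw [← p.ev_combination G.V.1 G.a c i hi, map_sum, map_sum]
  refine Finset.sum_congr rfl fun μ hμ => ?_
  rw [map_mul, map_mul, p.ez_app hspec.fac, p.ev_app]
  refine congrArg (_ * ·) ?_
  beta_reduce
  by_cases h0 : p.coeffSec G.V.1 G.a μ = 0
  · rw [dif_neg (fun h' : μ ∈ p.expo G.V.1 G.a ∧ p.coeffSec G.V.1 G.a μ ≠ 0 => h'.2 h0), map_zero, h0, map_zero]
  · rw [dif_pos ⟨hμ, h0⟩, hy ⟨μ, hμ⟩ i hi]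

/-- The norm with values in the model. -/
theorem exists_relNorm [IsReduced X] [IsFinite g] [Surjective g] {κ : Type} (G : κ → Gens g)
    (hcov : ∀ x : X, ∃ k, x ∈ (G k).V.1)
    (hG : ∀ k, ∀ μ ∈ p.expo (G k).V.1 (G k).a, p.coeffSec (G k).V.1 (G k).a μ ∈ J.S (G k).V) :
    ∃ d : RelNorm g h, d.Reflects := by
  classical
  have hbig : ∀ (k : κ) (a' : Γ(X', g ⁻¹ᵁ (G k).V.1)), ∃ t : Γ(Z, h ⁻¹ᵁ (G k).V.1),
      ∀ (i : p.ι) (hi : p.η i ∈ (G k).V.1), p.ez hspec.fac i _ hi t = p.nev i _ hi a' := fun k a' => by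
    obtain ⟨c, rfl⟩ := (G k).span a'
    obtain ⟨y, -, hy⟩ := p.exists_norm_gens hspec (G k) (hG k) c
    exact ⟨_, hy⟩
  have hloc : ∀ (U : X.Opens) (a : Γ(X', g ⁻¹ᵁ U)) (x : X), x ∈ U → ∃ (V : X.Opens) (hVU : V ≤ U), x ∈ V ∧
      ∃ t : Γ(Z, h ⁻¹ᵁ V), ∀ (i : p.ι) (hi : p.η i ∈ V),
        p.ez hspec.fac i V hi t = p.nev i U (hVU hi) a := by
    intro U a x hx
    obtain ⟨k, hk⟩ := hcov x
    obtain ⟨f, hf, hxf⟩ := (G k).V.2.exists_basicOpen_le (V := U) ⟨x, hx⟩ hk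
    obtain ⟨n, a', ha⟩ := exists_local_fraction (G k) f (res (g.preimage_mono hf) a)
    obtain ⟨v, hv⟩ : ∃ v : Γ(X, X.basicOpen f), v * res (X.basicOpen_le f) (f ^ n) = 1 := by
      rw [show res (X.basicOpen_le f) (f ^ n) = res (X.basicOpen_le f) f ^ n from map_pow _ _ _]
      exact ((X.toRingedSpace.isUnit_res_basicOpen f).pow n).exists_left_inv
    obtain ⟨t, ht⟩ := hbig k a'
    refine ⟨X.basicOpen f, hf, hxf,
      h.app _ v ^ p.R * res (h.preimage_mono (X.basicOpen_le f)) t, fun i hi => ?_⟩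
    rw [map_mul, map_pow, p.ez_app hspec.fac, p.ez_res hspec.fac i (X.basicOpen_le f) hi, ht,
      ← p.nev_res i (X.basicOpen_le f) hi a', ← ha, p.nev_mul, p.nev_app, p.nev_res i hf hi a,
      ← mul_assoc, ← mul_pow, ← map_mul, hv, map_one, one_pow, one_mul]
  have hex : ∀ (U : X.Opens) (a : Γ(X', g ⁻¹ᵁ U)), ∃ t : Γ(Z, h ⁻¹ᵁ U),
      ∀ (i : p.ι) (hi : p.η i ∈ U), p.ez hspec.fac i U hi t = p.nev i U hi a := by
    intro U a
    choose V hVU hxV t ht using fun x : U => hloc U a x.1 x.2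
    obtain ⟨T, hT, -⟩ := TopCat.Sheaf.existsUnique_gluing' Z.sheaf (fun x : U => h ⁻¹ᵁ V x) (h ⁻¹ᵁ U)
      (fun x => homOfLE (h.preimage_mono (hVU x)))
      (fun z hz => Opens.mem_iSup.2 ⟨⟨h z, hz⟩, hxV ⟨h z, hz⟩⟩) t (fun x y => by
        change res (h.preimage_mono (inf_le_left : V x ⊓ V y ≤ V x)) (t x) =
          res (h.preimage_mono (inf_le_right : V x ⊓ V y ≤ V y)) (t y)
        refine p.ez_ext hspec fun i hi => ?_
        refine ((p.ez_res hspec.fac i (inf_le_left : V x ⊓ V y ≤ V x) hi _).trans (ht x i hi.1)).trans ?_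
        exact ((p.ez_res hspec.fac i (inf_le_right : V x ⊓ V y ≤ V y) hi _).trans (ht y i hi.2)).symm)
    refine ⟨T, fun i hi => ?_⟩
    have hi' : p.η i ∈ V ⟨p.η i, hi⟩ := hxV ⟨p.η i, hi⟩
    rw [← p.ez_res hspec.fac i (hVU ⟨p.η i, hi⟩) hi' T,
      show res (h.preimage_mono (hVU ⟨p.η i, hi⟩)) T = t ⟨p.η i, hi⟩ from hT ⟨p.η i, hi⟩, ht _ i hi']
  choose N hN using hex
  let d : RelNorm g h :=
    { R := p.R
      hR := p.R_pos
      N := N
      map_one := fun U => p.ez_ext hspec fun i hi => by rw [hN, p.nev_one, map_one]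
      map_mul := fun U a b => p.ez_ext hspec fun i hi => by rw [map_mul, hN, hN, hN, p.nev_mul]
      natural := fun U V hVU a => p.ez_ext hspec fun i hi => by
        rw [p.ez_res hspec.fac i hVU hi, hN, hN, p.nev_res]
      map_app := fun U c => p.ez_ext hspec fun i hi => by
        rw [hN, p.nev_app, map_pow, p.ez_app hspec.fac] }
  refine ⟨d, fun U a ζ hζ => ?_⟩
  by_contra hne
  obtain ⟨k, hk⟩ := hcov (h ζ)
  have hζU : ζ ∈ h ⁻¹ᵁ U := Z.basicOpen_le _ hζ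
  obtain ⟨f, hf, hxf⟩ := (G k).V.2.exists_basicOpen_le (V := U) ⟨h ζ, hζU⟩ hk
  obtain ⟨n, a', ha⟩ := exists_local_fraction (G k) f (res (g.preimage_mono hf) a)
  let V := (G k).V.1
  -- `a'` vanishes on the fibre
  have hvan : ∀ z : X', g z = h ζ → z ∉ X'.basicOpen a' := by
    intro z hz hza
    refine hne ⟨z, hz, ?_⟩
    have hzf : z ∈ g ⁻¹ᵁ X.basicOpen f := by
      change g z ∈ X.basicOpen f
      rw [hz]
      exact hxf
    have h1 : z ∈ X'.basicOpen (res (g.preimage_mono (X.basicOpen_le f)) a') := by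
      rw [Scheme.basicOpen_res]
      exact ⟨hzf, hza⟩
    rw [← ha, Scheme.basicOpen_mul, Scheme.basicOpen_res] at h1
    exact h1.2.2
  have hV' : IsAffineOpen (g ⁻¹ᵁ V) := (G k).V.2.preimage g
  let P := ((G k).V.2.primeIdealOf ⟨h ζ, hk⟩).asIdeal
  let φ := (g.app V).hom
  have hfib : ∀ Q : Ideal Γ(X', g ⁻¹ᵁ V), Q.IsPrime → Q.comap φ = P → a' ∈ Q := by
    intro Q hQ hQP
    let q : PrimeSpectrum Γ(X', g ⁻¹ᵁ V) := ⟨Q, hQ⟩
    let z := hV'.fromSpec q
    have hzV : z ∈ g ⁻¹ᵁ V := hV'.range_fromSpec.le ⟨q, rfl⟩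
    have hzq : hV'.primeIdealOf ⟨z, hzV⟩ = q := hV'.fromSpec.isOpenEmbedding.injective
      (hV'.fromSpec_primeIdealOf _)
    have hgz : g z = h ζ := by
      have h1 := IsAffineOpen.comap_primeIdealOf_appLE (f := g) V (G k).V.2 _ hV' le_rfl hzV
      rw [hzq, ← Scheme.Hom.app_eq_appLE] at h1
      have h2 : PrimeSpectrum.comap φ q = (G k).V.2.primeIdealOf ⟨h ζ, hk⟩ := PrimeSpectrum.ext hQP
      have h3 := congrArg (G k).V.2.fromSpec (h1.symm.trans h2)
      rwa [(G k).V.2.fromSpec_primeIdealOf, (G k).V.2.fromSpec_primeIdealOf] at h3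
    by_contra hna
    refine hvan z hgz ?_
    have h4 : q ∈ PrimeSpectrum.basicOpen a' := hna
    have h5 : z ∈ hV'.fromSpec ''ᵁ PrimeSpectrum.basicOpen a' := ⟨q, h4, rfl⟩
    rwa [hV'.fromSpec_image_basicOpen] at h5
  -- some multiple of a power of `a'` lies in `P A`
  obtain ⟨s, n', hs, hsa⟩ : ∃ (s : Γ(X, V)) (n' : ℕ), s ∉ P ∧ φ s * a' ^ n' ∈ P.map φ := by
    by_contra hcon
    push Not at hcon
    let T : Submonoid Γ(X', g ⁻¹ᵁ V) := P.primeCompl.map φ ⊔ Submonoid.powers a'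
    have hdisj : Disjoint (P.map φ : Set Γ(X', g ⁻¹ᵁ V)) T := Set.disjoint_left.2 fun y hy hyT => by
      obtain ⟨_, ⟨s, hs, rfl⟩, _, ⟨n', rfl⟩, rfl⟩ := Submonoid.mem_sup.1 hyT
      exact hcon s n' hs hy
    obtain ⟨Q, hQ, hle, hQT⟩ := Ideal.exists_le_prime_disjoint (P.map φ) T hdisj
    have hQP : Q.comap φ = P := by
      refine le_antisymm (fun y hy => ?_) (Ideal.map_le_iff_le_comap.1 hle)
      by_contra hyP
      exact Set.disjoint_left.1 hQT hy (Submonoid.mem_sup_left ⟨y, hyP, rfl⟩)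
    exact Set.disjoint_left.1 hQT (hfib Q hQ hQP) (Submonoid.mem_sup_right (Submonoid.mem_powers a'))
  have hcoef : ∃ c : Fin (G k).m → Γ(X, V), (∀ j, c j ∈ P) ∧
      φ s * a' ^ n' = ∑ j, g.app V (c j) * (G k).a j := by
    refine Submodule.span_induction (R := Γ(X', g ⁻¹ᵁ V))
      (p := fun y _ => ∃ c : Fin (G k).m → Γ(X, V), (∀ j, c j ∈ P) ∧ y = ∑ j, g.app V (c j) * (G k).a j)
      ?_ ⟨0, fun _ => P.zero_mem, by simp⟩ ?_ ?_ hsa
    · rintro _ ⟨π, hπ, rfl⟩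
      obtain ⟨c, hc⟩ := (G k).span 1
      refine ⟨fun j => π * c j, fun j => P.mul_mem_right _ hπ, ?_⟩
      conv_lhs => rw [← mul_one (φ π), hc]
      rw [Finset.mul_sum]
      exact Finset.sum_congr rfl fun j _ => by rw [map_mul]; exact (mul_assoc _ _ _).symm
    · rintro y y' - - ⟨c, hc, rfl⟩ ⟨c', hc', rfl⟩
      exact ⟨c + c', fun j => P.add_mem (hc j) (hc' j), by
        simp [Finset.sum_add_distrib, add_mul]⟩
    · rintro w y - ⟨c, hc, rfl⟩
      choose w' hw using fun j => (G k).span (w * (G k).a j)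
      refine ⟨fun l => ∑ j, c j * w' j l, fun l => P.sum_mem fun j _ => P.mul_mem_right _ (hc j), ?_⟩
      rw [smul_eq_mul, Finset.mul_sum]
      calc ∑ j, w * (g.app V (c j) * (G k).a j) = ∑ j, g.app V (c j) * (w * (G k).a j) :=
            Finset.sum_congr rfl fun j _ => by ring
        _ = ∑ j, ∑ l, g.app V (c j * w' j l) * (G k).a l := Finset.sum_congr rfl fun j _ => by
            rw [hw, Finset.mul_sum]
            exact Finset.sum_congr rfl fun l _ => by rw [map_mul, mul_assoc]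
        _ = _ := by
            rw [Finset.sum_comm]
            exact Finset.sum_congr rfl fun l _ => by rw [map_sum, Finset.sum_mul]
  obtain ⟨c, hcP, hc⟩ := hcoef
  obtain ⟨y, hy0, hy⟩ := p.exists_norm_gens hspec (G k) (hG k) c
  have hN' : N V (φ s * a' ^ n') = ∑ μ ∈ p.expo V (G k).a, h.app V (∏ j, c j ^ μ j) * y μ :=
    p.ez_ext hspec fun i hi => by rw [hN, hc]; exact (hy i hi).symm
  -- it vanishes at `ζ`
  let γ := (Z.presheaf.germ (h ⁻¹ᵁ V) ζ hk).hom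
  have hm : ∀ π ∈ P, γ (h.app V π) ∈ IsLocalRing.maximalIdeal (Z.presheaf.stalk ζ) := fun π hπ => by
    refine (IsLocalRing.mem_maximalIdeal _).2 fun hu => ?_
    have h1 : ζ ∈ Z.basicOpen (h.app V π) := (Z.mem_basicOpen _ ζ hk).2 hu
    rw [← Scheme.preimage_basicOpen] at h1
    have h2 : (G k).V.2.primeIdealOf ⟨h ζ, hk⟩ ∈ PrimeSpectrum.basicOpen π := by
      rw [← (G k).V.2.fromSpec_preimage_basicOpen]
      change (G k).V.2.fromSpec _ ∈ X.basicOpen π
      rw [(G k).V.2.fromSpec_primeIdealOf]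
      exact h1
    exact h2 hπ
  have hnot : γ (N V (φ s * a' ^ n')) ∈ IsLocalRing.maximalIdeal (Z.presheaf.stalk ζ) := by
    rw [hN', map_sum]
    refine Ideal.sum_mem _ fun μ _ => ?_
    by_cases hμ : μ = 0
    · rw [hy0 μ (hμ ▸ p.coeffSec_zero V (G k).a), mul_zero, map_zero]
      exact Ideal.zero_mem _
    · obtain ⟨j, hj⟩ : ∃ j, μ j ≠ 0 := by
        by_contra h'
        push Not at h'
        exact hμ (Finsupp.ext h')
      rw [map_mul]
      refine Ideal.mul_mem_right _ _ (hm _ ?_)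
      exact P.mem_of_dvd (Finset.dvd_prod_of_mem _ (Finset.mem_univ j))
        (P.pow_mem_of_mem (hcP j) _ (Nat.pos_of_ne_zero hj))
  refine (IsLocalRing.mem_maximalIdeal _).1 hnot ?_
  have hs' : ∀ z : X', g z = h ζ → z ∈ X'.basicOpen (φ s) := fun z hz => by
    rw [show X'.basicOpen (φ s) = g ⁻¹ᵁ X.basicOpen s from (Scheme.preimage_basicOpen g s).symm]
    change g z ∈ X.basicOpen s
    rw [hz]
    have : (G k).V.2.fromSpec ((G k).V.2.primeIdealOf ⟨h ζ, hk⟩) ∈ X.basicOpen s :=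
      (G k).V.2.fromSpec_image_basicOpen s ▸ ⟨_, hs, rfl⟩
    rwa [(G k).V.2.fromSpec_primeIdealOf] at this
  have hNs : IsUnit (γ (N V (φ s))) := (Z.mem_basicOpen _ ζ hk).1 (d.mem_basicOpen (φ s) hk hs')
  have hNa : IsUnit (γ (N V a')) := by
    have h1 : ζ ∈ Z.basicOpen (N (X.basicOpen f) (res (g.preimage_mono (X.basicOpen_le f)) a')) := by
      rw [← ha]
      have e := d.map_mul (X.basicOpen f) (g.app (X.basicOpen f) (res (X.basicOpen_le f) (f ^ n)))
        (res (g.preimage_mono hf) a)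
      change _ = N _ _ * N _ _ at e
      rw [show d.N = N from rfl] at e
      rw [e, Scheme.basicOpen_mul]
      refine ⟨d.mem_basicOpen _ (show ζ ∈ h ⁻¹ᵁ X.basicOpen f from hxf) fun z hz => ?_, ?_⟩
      · have hu : IsUnit (g.app (X.basicOpen f) (res (X.basicOpen_le f) (f ^ n))) := by
          rw [show res (X.basicOpen_le f) (f ^ n) = res (X.basicOpen_le f) f ^ n from map_pow _ _ _]
          exact ((X.toRingedSpace.isUnit_res_basicOpen f).pow n).map (g.app _).hom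
        rw [Scheme.basicOpen_of_isUnit X' hu]
        change g z ∈ X.basicOpen f
        rw [hz]
        exact hxf
      · change ζ ∈ Z.basicOpen (d.N (X.basicOpen f) (res (g.preimage_mono hf) a))
        rw [← d.natural U _ hf a, Scheme.basicOpen_res]
        exact ⟨hxf, hζ⟩
    rw [show N (X.basicOpen f) _ = res (h.preimage_mono (X.basicOpen_le f)) (N V a') from
      (d.natural V _ (X.basicOpen_le f) a').symm, Scheme.basicOpen_res] at h1
    exact (Z.mem_basicOpen _ ζ hk).1 h1.2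
  have hmul : N V (φ s * a' ^ n') = N V (φ s) * N V a' ^ n' := by
    refine p.ez_ext hspec fun i hi => ?_
    rw [hN, map_mul, map_pow, hN, hN, p.nev_mul]
    refine congrArg (_ * ·) ?_
    clear hsa hc hN' hnot
    induction n' with
    | zero => rw [pow_zero, pow_zero, p.nev_one]
    | succ l ih => rw [pow_succ, pow_succ, p.nev_mul, ih]
  rw [hmul, map_mul, map_pow]
  exact hNs.mul (hNa.pow _)

end Pieces

end Groth.Agent.H11Norm
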