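import Groth.Agent.H11Norm.Main
import Groth.Agent.H11Norm.Line
import Groth.Agent.H7Flat.GenericFreeness
import Groth.Agent.H17.Reduced
import Groth.Agent.H17.AmpleSep
import Groth.Agent.H17.Separated

/-!
# Norms along finite surjective morphisms to a normal integral scheme
-/

set_option autoImplicit false
set_option linter.style.haveILetI false

noncomputable section

universe u

open CategoryTheory CategoryTheory.Limits AlgebraicGeometry Opposite TopologicalSpace
open Groth.Agent.H7Lim.Approx

namespace Groth.Agent.H11Norm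

variable {X X' : Scheme.{u}}

/-- Generic freeness as a chart, over any domain. -/
theorem exists_chart_le_domain (g : X' ⟶ X) [IsFinite g] {W : X.Opens} (hW : IsAffineOpen W) [IsDomain Γ(X, W)] :
    ∃ (f : Γ(X, W)) (r : ℕ), f ≠ 0 ∧ IsChart g (X.basicOpen f) r := by
  classical
  let F := (Coh.push g).obj (Coh.structureModule X')
  have hF : Coh.IsQCoh F := by
    haveI : (Coh.structureModule X').IsQuasicoherent := H10Coh.isQuasicoherent_unit
    exact H10Coh.isQuasicoherent_pushforward_of_isAffineHom g _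
  haveI : Module.Finite Γ(X, W) Γ(F, W) := by
    letI := alg g W
    haveI : Module.Finite Γ(X, W) Γ(X', g ⁻¹ᵁ W) := IsFinite.finite_app g W hW
    exact Module.Finite.equiv
      ({ toFun := fun a => a
         invFun := fun a => a
         map_add' := fun _ _ => rfl
         map_smul' := fun _ _ => rfl
         left_inv := fun _ => rfl
         right_inv := fun _ => rfl } : Γ(X', g ⁻¹ᵁ W) ≃ₗ[Γ(X, W)] Γ(F, W))
  obtain ⟨f, hf, B, hB, hspan⟩ := H7Flat.exists_isAwayFree_of_finiteType (R := Γ(X, W)) Γ(X, W) Γ(F, W)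
  haveI : Finite B := (hB.linearIndependent).finite
  obtain ⟨r, ⟨σ⟩⟩ := Finite.exists_equiv_fin B
  let m : Fin r → Γ(F, W) := fun j => (σ.symm j).1
  have hm : Set.range m = B := by
    ext y
    exact ⟨fun ⟨j, hj⟩ => hj ▸ (σ.symm j).2, fun hy => ⟨σ ⟨y, hy⟩, by simp [m]⟩⟩
  have hs : H29Fitt.SpansUpTo (Submonoid.powers f) m := fun y => by
    obtain ⟨n, hn⟩ := hspan y
    exact ⟨f ^ n, ⟨n, rfl⟩, by rwa [hm]⟩
  have hi : H8Props.FinLocFree.IndepUpTo (Submonoid.powers f) m := fun c hc j =>
    ⟨1, one_mem _, by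
      rw [one_mul]
      exact Fintype.linearIndependent_iff.1 (hB.linearIndependent.comp σ.symm σ.symm.injective) c hc j⟩
  haveI := H8Props.FinLocFree.isIso_basicHom F hF hW f m hs hi
  exact ⟨f, r, hf, isChart_of_iso g (asIso (H29Fitt.basicHom F f m)).symm⟩

/-- A single piece. -/
theorem exists_piece [IsIntegral X] (g : X' ⟶ X) [IsFinite g] :
    ∃ p : Pieces g, IsAffineOpen p.D := by
  obtain ⟨W, hW, hηW, -⟩ := exists_isAffineOpen_mem_and_subset (U := (⊤ : X.Opens)) (x := genericPoint X) trivial
  haveI : Nonempty W := ⟨⟨_, hηW⟩⟩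
  obtain ⟨f, r, hf, hc⟩ := exists_chart_le_domain g hW
  have hne : (X.basicOpen f : Set X).Nonempty := by
    rw [Set.nonempty_iff_ne_empty, Ne, Opens.coe_eq_empty, AlgebraicGeometry.basicOpen_eq_bot_iff]
    exact hf
  have hη : ∀ O : X.Opens, ∀ x ∈ O, genericPoint X ∈ O := fun O x hx =>
    ((genericPoint_spec X).specializes (Set.mem_univ x)).mem_open O.isOpen hx
  obtain ⟨x, hx⟩ := hne
  refine ⟨{ ι := Fin 1, W := fun _ => X.basicOpen f, η := fun _ => genericPoint X, r := fun _ => r,
            isChart := fun _ => hc, generic := fun _ => ⟨hη _ x hx, fun O _ => hη O⟩,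
            isField := fun _ => ?_, disjoint := fun i j hij => absurd (Subsingleton.elim i j) hij,
            dense := ?_ }, ?_⟩
  · exact Field.toIsField X.functionField
  · rw [dense_iff_inter_open]
    intro O hO ⟨y, hy⟩
    exact ⟨genericPoint X, hη ⟨O, hO⟩ y hy, Opens.mem_iSup.2 ⟨0, hη _ x hx⟩⟩
  · rw [Pieces.D, iSup_unique]
    exact hW.basicOpen f

/-- A finite surjective morphism to a quasi-compact separated normal integral scheme has a norm. -/
theorem exists_normMul_normal [IsIntegral X] [CompactSpace X] [X.IsSeparated] (g : X' ⟶ X) [IsFinite g]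
    [Surjective g] (hX : Pi1.IsNormalScheme X) : Nonempty (NormMul g) := by
  classical
  obtain ⟨p, hpD⟩ := exists_piece g
  haveI : IsAffine p.D.toScheme := hpD
  haveI : QuasiCompact p.D.ι := quasiCompact_of_compactSpace _
  haveI : QuasiSeparated p.D.ι := inferInstance
  let J := Sub.bot p.D.ι
  have hspec : J.IsSpec (𝟙 X) p.D.ι :=
    { isAffineHom := inferInstance
      fac := Category.comp_id _
      injective := fun U a b hab => by
        refine eq_of_dense (X := X) (D := p.D) p.dense ?_
        refine TopCat.Presheaf.section_ext X.sheaf _ _ _ fun y hy => ?_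
        obtain ⟨i, hi⟩ := Opens.mem_iSup.1 hy.2
        have hη : p.η i ∈ U.1 ⊓ p.W i := (p.generic i).2 _ inf_le_right y ⟨hy.1, hi⟩
        have h0 : res (inf_le_left : U.1 ⊓ p.W i ≤ U.1) ((show Γ(X, U.1) from a) - (show Γ(X, U.1) from b)) = 0 := by
          refine (p.generic i).eq_zero inf_le_right hη ?_
          refine (TopCat.Presheaf.germ_res_apply X.presheaf _ _ hη _).trans ?_
          rw [map_sub, sub_eq_zero]
          have := congrArg (p.ev i U.1 hη.1) hab
          change p.ev i U.1 hη.1 (p.D.ι.appLE U.1 _ _ a) = p.ev i U.1 hη.1 (p.D.ι.appLE U.1 _ _ b) at this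
          rw [← Scheme.Hom.app_eq_appLE, p.ev_app, p.ev_app] at this
          exact this
        have h1 := congrArg (X.presheaf.germ (U.1 ⊓ p.W i) y ⟨hy.1, hi⟩) h0
        rw [TopCat.Presheaf.germ_res_apply, map_zero, map_sub, sub_eq_zero] at h1
        exact (TopCat.Presheaf.germ_res_apply X.presheaf _ y hy _).trans
          (h1.trans (TopCat.Presheaf.germ_res_apply X.presheaf _ y hy _).symm)
      range_eq := fun U => by
        change (p.D.ι.appLE U.1 _ _).hom.range = (p.D.ι.app U.1).hom.range
        rw [Scheme.Hom.app_eq_appLE] }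
  have hcomp : (irreducibleComponents X).Finite := by
    rw [irreducibleComponents_eq_singleton]
    exact Set.finite_singleton _
  choose G hG using exists_gens g
  obtain ⟨S, hS⟩ := isCompact_univ.elim_finite_subcover (fun x => ((G x).V.1 : Set X))
    (fun x => (G x).V.1.isOpen) (fun x _ => Set.mem_iUnion.2 ⟨x, hG x⟩)
  have hκ : ∀ x : X, ∃ k : Fin S.card, x ∈ (G (S.equivFin.symm k).1).V.1 := fun x => by
    obtain ⟨y, hy, hxy⟩ := Set.mem_iUnion₂.1 (hS (Set.mem_univ x))
    exact ⟨S.equivFin ⟨y, hy⟩, by rw [Equiv.symm_apply_apply]; exact hxy⟩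
  obtain ⟨d, hd⟩ := p.exists_relNorm hspec (fun k : Fin S.card => G (S.equivFin.symm k).1) hκ fun k μ _ => by
    refine p.mem_bot_of_extend _ _ fun y hy => ?_
    haveI := (hX y).1
    haveI := (hX y).2
    obtain ⟨V, hV, c, hyV, hc⟩ := p.exists_extend_normal (Or.inr ⟨inferInstance, hcomp⟩)
      (p.coeffSec_mem_intRing (G (S.equivFin.symm k).1).V.2 _ μ) hy
    exact ⟨V, hV, c, hyV, hc⟩
  exact ⟨{ N := d.N, map_one := d.map_one, map_mul := d.map_mul, natural := d.natural, reflects := hd }⟩

/-- The image of a scheme with an ample module under a finite surjective map onto a normal integral scheme. -/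
theorem exists_isAmple_of_finite_surjective_normal [IsIntegral X] (g : X' ⟶ X) [IsFinite g] [Surjective g]
    (hX : Pi1.IsNormalScheme X) {L : X'.Modules} (hL : CohB1.IsAmple L) :
    ∃ M : X.Modules, CohB1.IsAmple M := by
  haveI : CompactSpace X' := H11Ample.compactSpace_of_isAmple hL
  haveI : CompactSpace X := g.surjective.compactSpace g.continuous
  haveI : X'.IsSeparated := H17.AmpleSep.isSeparated_of_isAmple hL
  haveI : X.IsSeparated := by
    haveI : IsSeparated (g ≫ terminal.from X) := by
      rw [terminal.comp_from]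
      infer_instance
    exact ⟨H17.isSeparated_of_surjective_universallyClosed g (terminal.from X)⟩
  -- an integral closed subscheme dominating `X`
  obtain ⟨ξ, hξ⟩ := g.surjective (genericPoint X)
  let Zc : Closeds X' := ⟨closure {ξ}, isClosed_closure⟩
  let I := Scheme.IdealSheafData.vanishingIdeal Zc
  let i := I.subschemeι
  have hrange : Set.range i = closure {ξ} := by
    exact H17.range_vanishingIdeal_subschemeι Zc
  haveI : IsReduced I.subscheme := H17.isReduced_vanishingIdeal_subscheme Zc
  haveI : IrreducibleSpace I.subscheme := by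
    have h1 : IsIrreducible (Set.range i) := hrange ▸ isIrreducible_singleton.closure
    haveI : Nonempty I.subscheme := Set.range_nonempty_iff_nonempty.1 h1.nonempty
    haveI : PreirreducibleSpace I.subscheme := by
      refine ⟨?_⟩
      have h2 : IsPreirreducible (i '' Set.univ) := by rw [Set.image_univ]; exact h1.2
      intro U V hU hV ⟨a, _, ha⟩ ⟨b, _, hb⟩
      obtain ⟨U', hU', rfl⟩ := i.isClosedEmbedding.isInducing.isOpen_iff.1 hU
      obtain ⟨V', hV', rfl⟩ := i.isClosedEmbedding.isInducing.isOpen_iff.1 hV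
      obtain ⟨_, ⟨c, _, rfl⟩, hc⟩ := h2 U' V' hU' hV' ⟨i a, ⟨a, trivial, rfl⟩, ha⟩ ⟨i b, ⟨b, trivial, rfl⟩, hb⟩
      exact ⟨c, trivial, hc⟩
    exact ⟨inferInstance⟩
  haveI : IsIntegral I.subscheme := isIntegral_of_irreducibleSpace_of_isReduced _
  let g1 := i ≫ g
  haveI : IsFinite g1 := inferInstanceAs (IsFinite (i ≫ g))
  haveI : Surjective g1 := ⟨fun x => by
    have hmem : ξ ∈ Set.range i := hrange ▸ subset_closure rfl
    have hcl : IsClosed (Set.range g1) := by simpa [Set.image_univ] using g1.isClosedMap _ isClosed_univ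
    obtain ⟨z, hz⟩ := hmem
    have hη : genericPoint X ∈ Set.range g1 := ⟨z, by rw [Scheme.Hom.comp_apply, hz, hξ]⟩
    exact ((genericPoint_spec X).specializes (Set.mem_univ x)).mem_closed hcl hη⟩
  obtain ⟨d⟩ := exists_normMul_normal g1 hX
  have hA : CohB1.IsAmple ((Scheme.Modules.pullback i).obj L) := H11Ample.isAmple_pullback_of_isAffineHom i hL
  obtain ⟨M, hM, ⟨F⟩⟩ := exists_normFamily d (H11Ample.isInvertible_of_isAmple hA)
  exact ⟨M, isAmple_of_normFamily hM F hA⟩

end Groth.Agent.H11Norm
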