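import Groth.Agent.H02CA.NormZeroLocus
import Groth.Agent.H1CAlg.NagataUnramified
import Mathlib.AlgebraicGeometry.FunctionField
import Mathlib.AlgebraicGeometry.Morphisms.Finite
import Mathlib.RingTheory.Norm.Transitivity
import Groth.Prelude.Def_Fitting

/-!
# The field norm of a finite surjective morphism onto a normal integral scheme
-/

set_option autoImplicit false
set_option linter.style.haveILetI false

noncomputable section

universe u

open CategoryTheory AlgebraicGeometry Opposite TopologicalSpace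

namespace Groth.Agent.H11Norm.NormalDegree

variable {X Y : Scheme.{u}} [IsIntegral X] [IsIntegral Y] (g : X ⟶ Y) [IsFinite g] [Surjective g]

theorem apply_genericPoint : g (genericPoint X) = genericPoint Y := by
  refine ((genericPoint_spec Y).eq ?_).symm
  have h := (genericPoint_spec X).image g.continuous
  rwa [Set.image_univ, g.surjective.range_eq, closure_univ] at h

theorem mem_preimage {U : Y.Opens} (h : genericPoint Y ∈ U) : genericPoint X ∈ g ⁻¹ᵁ U := by
  change g (genericPoint X) ∈ U
  rwa [apply_genericPoint g]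

/-- The map of function fields. -/
def ffMap : Y.functionField →+* X.functionField :=
  (Y.presheaf.stalkSpecializes (specializes_of_eq (apply_genericPoint g)) ≫ g.stalkMap (genericPoint X)).hom

theorem ffMap_germ {U : Y.Opens} (h : genericPoint Y ∈ U) (s : Γ(Y, U)) :
    ffMap g (Y.presheaf.germ U (genericPoint Y) h s) =
      X.presheaf.germ (g ⁻¹ᵁ U) (genericPoint X) (mem_preimage g h) (g.app U s) := by
  change g.stalkMap (genericPoint X) (Y.presheaf.stalkSpecializes _ (Y.presheaf.germ U _ h s)) = _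
  rw [Y.presheaf.germ_stalkSpecializes_apply]
  exact Scheme.Hom.germ_stalkMap_apply g U (genericPoint X) (mem_preimage g h) s

/-- The degree. -/
def degree : ℕ :=
  letI := (ffMap g).toAlgebra
  Module.finrank Y.functionField X.functionField

theorem germ_inj {Z : Scheme.{u}} [IsIntegral Z] {U : Z.Opens} (h : genericPoint Z ∈ U) :
    Function.Injective (Z.presheaf.germ U (genericPoint Z) h) :=
  haveI : Nonempty U := ⟨⟨_, h⟩⟩
  germ_injective_of_isIntegral Z _ h

/-- An element of the function field integral over every local ring of an open of a normal scheme is a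
section on that open. -/
theorem exists_germ_eq {Z : Scheme.{u}} [IsIntegral Z] (hN : ∀ x : Z, IsIntegrallyClosed (Z.presheaf.stalk x))
    {O : Z.Opens} (hη : genericPoint Z ∈ O) {z : Z.functionField}
    (hz : ∀ x : O, (Z.presheaf.stalkSpecializes ((genericPoint_spec Z).specializes (Set.mem_univ x.1))).hom.IsIntegralElem z) :
    ∃ w : Γ(Z, O), Z.presheaf.germ O (genericPoint Z) hη w = z := by
  have loc (x : O) : ∃ (W : Z.Opens) (hW : W ≤ O) (hηW : genericPoint Z ∈ W) (t : Γ(Z, W)),
      x.1 ∈ W ∧ Z.presheaf.germ W (genericPoint Z) hηW t = z := by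
    have := hN x.1
    have hspec : genericPoint Z ⤳ x.1 := (genericPoint_spec Z).specializes trivial
    have hint : _root_.IsIntegral (Z.presheaf.stalk x.1) z := hz x
    obtain ⟨s, hs⟩ := IsIntegrallyClosed.isIntegral_iff.mp hint
    obtain ⟨W, hxW, t, rfl⟩ := Z.presheaf.exists_germ_eq s
    have hxW' : x.1 ∈ W ⊓ O := ⟨hxW, x.2⟩
    refine ⟨W ⊓ O, inf_le_right, hspec.mem_open (W ⊓ O).isOpen hxW',
      Z.presheaf.map (homOfLE inf_le_left).op t, hxW', ?_⟩
    rw [← hs, show algebraMap (Z.presheaf.stalk x.1) Z.functionField = (Z.presheaf.stalkSpecializes hspec).hom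
      from rfl, TopCat.Presheaf.germ_res_apply]
    exact (Z.presheaf.germ_stalkSpecializes_apply hxW hspec t).symm
  choose W hW hηW t hxW ht using loc
  obtain ⟨w, hw, -⟩ := Z.sheaf.existsUnique_gluing' W O (fun x ↦ homOfLE (hW x))
    (fun x hx ↦ Opens.mem_iSup.mpr ⟨⟨x, hx⟩, hxW ⟨x, hx⟩⟩) t (fun a b ↦ by
      have hab : genericPoint Z ∈ W a ⊓ W b := ⟨hηW a, hηW b⟩
      apply germ_inj hab
      exact ((TopCat.Presheaf.germ_res_apply Z.presheaf _ _ hab (t a)).trans (ht a)).trans
        ((TopCat.Presheaf.germ_res_apply Z.presheaf _ _ hab (t b)).trans (ht b)).symm)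
  refine ⟨w, ?_⟩
  let x₀ : O := ⟨genericPoint Z, hη⟩
  rw [← ht x₀, ← hw x₀]
  exact (TopCat.Presheaf.germ_res_apply Z.presheaf (homOfLE (hW x₀)) _ (hηW x₀) w).symm

/-- The affine statement: finiteness, integrality of the norm and divisibility. -/
theorem affine (hY : ∀ y : Y, IsIntegrallyClosed (Y.presheaf.stalk y)) {V : Y.Opens} (hV : IsAffineOpen V)
    (hη : genericPoint Y ∈ V) :
    (letI := (ffMap g).toAlgebra; FiniteDimensional Y.functionField X.functionField) ∧
    ∀ b : Γ(X, g ⁻¹ᵁ V), ∃ (a : Γ(Y, V)) (c : Γ(X, g ⁻¹ᵁ V)),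
      (letI := (ffMap g).toAlgebra
       Y.presheaf.germ V (genericPoint Y) hη a =
        Algebra.norm Y.functionField (X.presheaf.germ (g ⁻¹ᵁ V) (genericPoint X) (mem_preimage g hη) b)) ∧
      g.app V a = b * c := by
  haveI : Nonempty V := ⟨⟨_, hη⟩⟩
  haveI : Nonempty (g ⁻¹ᵁ V : X.Opens) := ⟨⟨_, mem_preimage g hη⟩⟩
  haveI := functionField_isFractionRing_of_isAffineOpen Y V hV
  haveI := functionField_isFractionRing_of_isAffineOpen X _ (hV.preimage g)
  letI := (g.app V).hom.toAlgebra
  letI := (ffMap g).toAlgebra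
  letI : Algebra Γ(Y, V) X.functionField :=
    ((algebraMap Γ(X, g ⁻¹ᵁ V) X.functionField).comp (g.app V).hom).toAlgebra
  haveI : IsScalarTower Γ(Y, V) Γ(X, g ⁻¹ᵁ V) X.functionField := IsScalarTower.of_algebraMap_eq fun _ => rfl
  haveI : IsScalarTower Γ(Y, V) Y.functionField X.functionField :=
    IsScalarTower.of_algebraMap_eq fun s => (ffMap_germ g hη s).symm
  haveI : Module.Finite Γ(Y, V) Γ(X, g ⁻¹ᵁ V) := IsFinite.finite_app g V hV
  haveI : FiniteDimensional Y.functionField X.functionField :=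
    H1CAlg.finiteDimensional_of_finite_domain (D := Γ(Y, V)) (S := Γ(X, g ⁻¹ᵁ V)) (F := X.functionField)
  haveI : IsIntegrallyClosed Γ(Y, V) := by
    refine (isIntegrallyClosed_iff Y.functionField).2 fun {z} hz => ?_
    refine exists_germ_eq hY hη fun x => ?_
    obtain ⟨p, hp, hp'⟩ := hz
    refine ⟨p.map (Y.presheaf.germ V x.1 x.2).hom, hp.map _, ?_⟩
    rw [Polynomial.eval₂_map]
    refine Eq.trans (congrArg (fun φ : Γ(Y, V) →+* Y.functionField => Polynomial.eval₂ φ z p) ?_) hp'
    ext s
    exact Y.presheaf.germ_stalkSpecializes_apply _ _ s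
  refine ⟨inferInstance, fun b => ?_⟩
  obtain ⟨m, hm, hN⟩ := H02CA.NormZeroLocus.norm_eq (A := Γ(Y, V)) (K := Y.functionField)
    (L := X.functionField) b
  obtain ⟨k, rfl⟩ := Nat.exists_eq_add_one.2 hm
  set q := minpoly Γ(Y, V) b with hq
  have h1 := congrArg (Polynomial.aeval b) (Polynomial.X_mul_divX_add q)
  rw [minpoly.aeval, map_add, map_mul, Polynomial.aeval_X, Polynomial.aeval_C] at h1
  refine ⟨((-1) ^ q.natDegree * q.coeff 0) ^ (k + 1),
    g.app V ((-1) ^ q.natDegree * ((-1) ^ q.natDegree * q.coeff 0) ^ k) * -Polynomial.aeval b q.divX, hN.symm, ?_⟩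
  have h2 : g.app V (q.coeff 0) = -(b * Polynomial.aeval b q.divX) := eq_neg_of_add_eq_zero_right h1
  simp only [map_pow, map_mul, map_neg, map_one, h2]
  ring

/-- The field norm of germs. -/
def fnorm {U : Y.Opens} (h : genericPoint Y ∈ U) : Γ(X, g ⁻¹ᵁ U) →* Y.functionField :=
  letI := (ffMap g).toAlgebra
  (Algebra.norm Y.functionField).comp (X.presheaf.germ (g ⁻¹ᵁ U) (genericPoint X) (mem_preimage g h)).hom.toMonoidHom

theorem fnorm_res {U V : Y.Opens} (i : V ≤ U) (h : genericPoint Y ∈ V) (b : Γ(X, g ⁻¹ᵁ U)) :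
    fnorm g h (X.presheaf.map (homOfLE (g.preimage_mono i)).op b) = fnorm g (i h) b := by
  letI := (ffMap g).toAlgebra
  exact congrArg (Algebra.norm Y.functionField)
    (TopCat.Presheaf.germ_res_apply X.presheaf _ (genericPoint X) (mem_preimage g h) b)

/-- The norm exists. -/
theorem exists_normOfDegree (hY : ∀ y : Y, IsIntegrallyClosed (Y.presheaf.stalk y)) :
    ∃ d : ℕ, Nrm.HasNorm g d := by
  classical
  letI := (ffMap g).toAlgebra
  obtain ⟨V₀, hV₀, hηV₀, -⟩ :=
    exists_isAffineOpen_mem_and_subset (U := (⊤ : Y.Opens)) (x := genericPoint Y) trivial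
  haveI := (affine g hY hV₀ hηV₀).1
  have ex : ∀ (U : Y.Opens) (b : Γ(X, g ⁻¹ᵁ U)), ∃ a : Γ(Y, U), ∀ h : genericPoint Y ∈ U,
      Y.presheaf.germ U (genericPoint Y) h a = fnorm g h b := by
    intro U b
    by_cases h : genericPoint Y ∈ U
    · obtain ⟨a, ha⟩ := exists_germ_eq hY h (z := fnorm g h b) fun x => by
        obtain ⟨V, hV, hxV, hVU'⟩ := exists_isAffineOpen_mem_and_subset (U := U) x.2
        have hVU : V ≤ U := hVU'
        have hηV : genericPoint Y ∈ V := ((genericPoint_spec Y).specializes trivial).mem_open V.isOpen hxV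
        obtain ⟨a, -, ha, -⟩ := (affine g hY hV hηV).2 (X.presheaf.map (homOfLE (g.preimage_mono hVU)).op b)
        rw [← fnorm_res g hVU hηV b, show fnorm g hηV _ = Y.presheaf.germ V _ hηV a from ha.symm,
          ← Y.presheaf.germ_stalkSpecializes_apply hxV ((genericPoint_spec Y).specializes trivial) a]
        exact RingHom.isIntegralElem_map _
      exact ⟨a, fun _ => ha⟩
    · exact ⟨1, fun h' => absurd h' h⟩
  choose N hN using ex
  have huniq : ∀ (U : Y.Opens) (a a' : Γ(Y, U)), (∀ h : genericPoint Y ∈ U,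
      Y.presheaf.germ U (genericPoint Y) h a = Y.presheaf.germ U (genericPoint Y) h a') → a = a' := by
    intro U a a' h
    by_cases hU : genericPoint Y ∈ U
    · exact germ_inj hU (h hU)
    · refine TopCat.Presheaf.section_ext Y.sheaf U a a' fun y hy => absurd ?_ hU
      exact ((genericPoint_spec Y).specializes trivial).mem_open U.isOpen hy
  refine ⟨degree g, ⟨{
    one_le := Module.finrank_pos
    norm := fun U => { toFun := N U, map_one' := ?_, map_mul' := ?_ }
    norm_res := ?_
    norm_app := ?_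
    norm_mem := ?_ }⟩⟩
  · exact huniq _ _ _ fun h => by rw [hN U _ h, map_one, map_one]
  · exact fun a b => huniq _ _ _ fun h => by rw [hN U _ h, map_mul, map_mul, hN U a h, hN U b h]
  · intro U V i s
    refine huniq _ _ _ fun h => ?_
    change Y.presheaf.germ V _ h (Y.presheaf.map i.op (N U s)) = Y.presheaf.germ V _ h (N V _)
    rw [TopCat.Presheaf.germ_res_apply, hN U s, hN V _ h]
    exact (fnorm_res g (leOfHom i) h s).symm
  · intro U c
    refine huniq _ _ _ fun h => ?_
    change Y.presheaf.germ U _ h (N U (g.app U c)) = _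
    rw [hN U _ h, map_pow]
    refine Eq.trans (congrArg (Algebra.norm Y.functionField) (ffMap_germ g h c).symm) ?_
    exact Algebra.norm_algebraMap _
  · intro U s x hx hs
    obtain ⟨V, hV, hxV, hVU'⟩ := exists_isAffineOpen_mem_and_subset (U := U) hx
    have hVU : V ≤ U := hVU'
    have hηV : genericPoint Y ∈ V := ((genericPoint_spec Y).specializes trivial).mem_open V.isOpen hxV
    obtain ⟨a, c, ha, hac⟩ := (affine g hY hV hηV).2 (X.presheaf.map (homOfLE (g.preimage_mono hVU)).op s)
    have hres : Y.presheaf.map (homOfLE hVU).op (N U s) = a := germ_inj hηV (by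
      rw [TopCat.Presheaf.germ_res_apply, hN U s, ← fnorm_res g hVU hηV s]
      exact ha.symm)
    change Y.presheaf.germ U (g x) hx (N U s) ∈ _
    rw [← TopCat.Presheaf.germ_res_apply Y.presheaf (homOfLE hVU) (g x) hxV, hres]
    refine (IsLocalRing.mem_maximalIdeal _).2 fun hu => (IsLocalRing.mem_maximalIdeal _).1 hs ?_
    have hu' := hu.map (g.stalkMap x).hom
    rw [Scheme.Hom.germ_stalkMap_apply g V x hxV, hac, map_mul, TopCat.Presheaf.germ_res_apply] at hu'
    exact isUnit_of_mul_isUnit_left hu'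

end Groth.Agent.H11Norm.NormalDegree
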