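import Groth.Agent.H11Norm.Line
import Groth.Agent.H11Ample.RelQuasiAffine
import Groth.Prelude.Def_Fitting

/-!
# Norms of degree `d` and descent of (quasi-)affineness
-/

set_option autoImplicit false
set_option linter.style.haveILetI false

noncomputable section

universe u

open CategoryTheory CategoryTheory.Limits AlgebraicGeometry Opposite TopologicalSpace
open Groth.Agent.H11Tilde Groth.Agent.H11Ample

namespace Groth.Agent.H11Norm

variable {X X' : Scheme.{u}} {g : X' ⟶ X}

/-- A finite morphism carrying a norm is surjective. -/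
theorem surjective_of_hasNorm [IsFinite g] {d : ℕ} (n : Nrm.NormOfDegree g d) : Surjective g := by
  refine ⟨fun x => ?_⟩
  by_contra hx
  push Not at hx
  let V : X.Opens := ⟨(Set.range g)ᶜ, g.isClosedMap.isClosed_range.isOpen_compl⟩
  have hxV : x ∈ V := fun ⟨z, hz⟩ => hx z hz
  have hpre : g ⁻¹ᵁ V = ⊥ := by
    ext z
    exact ⟨fun hz => absurd ⟨z, rfl⟩ hz, fun hz => hz.elim⟩
  have hsub : Subsingleton Γ(X', g ⁻¹ᵁ V) :=
    subsingleton_of_not_nonempty fun z hz => hpre.le hz
  have h1 : (1 : Γ(X, V)) = 0 := by
    rw [← map_one (n.norm V), Subsingleton.elim (1 : Γ(X', g ⁻¹ᵁ V)) (g.app V 0), n.norm_app,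
      zero_pow (Nat.one_le_iff_ne_zero.1 n.one_le)]
  have h2 := congrArg (X.presheaf.germ V x hxV) h1
  rw [map_one, map_zero] at h2
  exact one_ne_zero h2

/-- A norm of degree `d` is a norm reflecting units. -/
theorem exists_normData_of_hasNorm [IsFinite g] {d : ℕ} (n : Nrm.NormOfDegree g d) :
    ∃ (D : NormData g ⊤), D.Reflects := by
  haveI := surjective_of_hasNorm n
  refine ⟨{ R := d
            hR := n.one_le
            N := fun U _ => n.norm U
            map_one := fun U _ => map_one _
            map_mul := fun U _ a b => map_mul _ a b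
            natural := fun U V _ h' a => n.norm_res (homOfLE h') a
            map_app := fun U _ c => n.norm_app U c }, fun U _ a x hx => ?_⟩
  obtain ⟨z, rfl⟩ := g.surjective x
  refine ⟨z, rfl, ?_⟩
  have hzU : g z ∈ U := X.basicOpen_le _ hx
  by_contra hz
  have h1 : X'.presheaf.germ (g ⁻¹ᵁ U) z hzU a ∈ IsLocalRing.maximalIdeal _ :=
    (IsLocalRing.mem_maximalIdeal _).2 fun hu => hz ((X'.mem_basicOpen _ z hzU).2 hu)
  exact (IsLocalRing.mem_maximalIdeal _).1 (n.norm_mem U a z hzU h1) ((X.mem_basicOpen _ _ hzU).1 hx)

/-- The multiplicative part. -/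
theorem exists_normMul_of_hasNorm [IsFinite g] {d : ℕ} (n : Nrm.NormOfDegree g d) : Nonempty (NormMul g) := by
  obtain ⟨D, hD⟩ := exists_normData_of_hasNorm n
  exact ⟨{ N := fun U => D.N U le_top
           map_one := fun U => D.map_one U le_top
           map_mul := fun U => D.map_mul U le_top
           natural := fun U V h a => D.natural U V le_top h a
           reflects := fun U => hD U le_top }⟩

/-- The norm family of the structure sheaf. -/
theorem nonempty_normFamily_structureModule (d : NormMul g) :
    Nonempty (NormFamily d (Coh.structureModule X') (Coh.structureModule X)) := by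
  refine ⟨⟨PUnit, fun _ => ⊤, fun _ => ⟨⟨⟩, trivial⟩, fun _ => one _, fun _ => one _,
    fun _ => isGen_one _, fun _ => isGen_one _, fun a b => ⟨1, ?_, ?_⟩⟩⟩
  · rw [one_smul]
  · rw [d.map_one, one_smul]

/-- Quasi-affineness descends along a finite surjective map with a multiplicative norm. -/
theorem isQuasiAffine_of_normMul [IsFinite g] [Surjective g] (d : NormMul g) (h : X'.IsQuasiAffine) :
    X.IsQuasiAffine := by
  haveI := h
  haveI : CompactSpace X := g.surjective.compactSpace g.continuous
  obtain ⟨F⟩ := nonempty_normFamily_structureModule d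
  exact isQuasiAffine_iff_isAmple.2
    (isAmple_of_normFamily isInvertible_structureModule F (isQuasiAffine_iff_isAmple.1 h))

end Groth.Agent.H11Norm
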