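import Groth.Agent.H11Norm.Normal
import Groth.Agent.H11Norm.OfDegree

/-!
# Quasi-affineness descends along finite surjective maps onto normal integral schemes
-/

set_option autoImplicit false
set_option linter.style.haveILetI false

noncomputable section

universe u

open CategoryTheory CategoryTheory.Limits AlgebraicGeometry Opposite TopologicalSpace
open Groth.Agent.H11Tilde Groth.Agent.H11Ample

namespace Groth.Agent.H11Norm

variable {X X' : Scheme.{u}}

/-- The image of a quasi-affine scheme under a finite surjective map onto a normal integral scheme. -/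
theorem isQuasiAffine_of_finite_surjective_normal [IsIntegral X] (g : X' ⟶ X) [IsFinite g] [Surjective g]
    (hX : Pi1.IsNormalScheme X) (hq : X'.IsQuasiAffine) : X.IsQuasiAffine := by
  haveI := hq
  haveI : CompactSpace X := g.surjective.compactSpace g.continuous
  have hL := isQuasiAffine_iff_isAmple.1 hq
  haveI : X'.IsSeparated := H17.AmpleSep.isSeparated_of_isAmple hL
  haveI : X.IsSeparated := by
    haveI : IsSeparated (g ≫ terminal.from X) := by
      rw [terminal.comp_from]
      infer_instance
    exact ⟨H17.isSeparated_of_surjective_universallyClosed g (terminal.from X)⟩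
  obtain ⟨ξ, hξ⟩ := g.surjective (genericPoint X)
  let Zc : Closeds X' := ⟨closure {ξ}, isClosed_closure⟩
  let I := Scheme.IdealSheafData.vanishingIdeal Zc
  let i := I.subschemeι
  have hrange : Set.range i = closure {ξ} := H17.range_vanishingIdeal_subschemeι Zc
  have hmem : ξ ∈ Set.range i := hrange ▸ subset_closure rfl
  let g1 := i ≫ g
  haveI : IsFinite g1 := inferInstanceAs (IsFinite (i ≫ g))
  haveI : Surjective g1 := ⟨fun x => by
    have hcl : IsClosed (Set.range g1) := g1.isClosedMap.isClosed_range
    obtain ⟨z, hz⟩ := hmem
    have hη : genericPoint X ∈ Set.range g1 := ⟨z, by rw [Scheme.Hom.comp_apply, hz, hξ]⟩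
    exact ((genericPoint_spec X).specializes (Set.mem_univ x)).mem_closed hcl hη⟩
  obtain ⟨d⟩ := exists_normMul_normal g1 hX
  obtain ⟨e⟩ := nonempty_pullback_structureModule_iso i
  have hA := isAmple_of_iso e (isAmple_pullback_of_isAffineHom i hL)
  haveI : CompactSpace I.subscheme := compactSpace_of_isAmple hA
  exact isQuasiAffine_of_normMul d (isQuasiAffine_iff_isAmple.2 hA)

end Groth.Agent.H11Norm
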