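import Groth.Agent.H11Norm.Basic
import Groth.Agent.H11Ample.AmpleOn
import Mathlib.AlgebraicGeometry.Restrict

/-!
# Norms on open subschemes and descent of ampleness on an open
-/

set_option autoImplicit false
set_option linter.style.haveILetI false

noncomputable section

universe u

open CategoryTheory CategoryTheory.Limits AlgebraicGeometry Opposite TopologicalSpace
open Groth.Agent.H11Tilde Groth.Agent.H11Ample

namespace Groth.Agent.H11Norm

variable {X X' : Scheme.{u}} {g : X' ⟶ X} {W : X.Opens}

/-- The norm of `g ∣_ W` on sections over an open of `W`. -/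
def NormData.restrN (d : NormData g W) (U : W.toScheme.Opens)
    (a : Γ((g ⁻¹ᵁ W).toScheme, (g ∣_ W) ⁻¹ᵁ U)) : Γ(W.toScheme, U) :=
  d.N (W.ι ''ᵁ U) ((W.ι_image_le U))
    (res (X := X') (le_of_eq (image_morphismRestrict_preimage g W U).symm) a)

theorem restrict_app_apply (U : W.toScheme.Opens) (c : Γ(W.toScheme, U)) :
    (g ∣_ W).app U c =
      res (X := X') (le_of_eq (image_morphismRestrict_preimage g W U)) (g.app (W.ι ''ᵁ U) c) := by
  rw [morphismRestrict_app]
  rfl

/-- A norm on `W` as a norm of the restricted morphism. -/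
def NormData.restr (d : NormData g W) : NormData (g ∣_ W) ⊤ where
  R := d.R
  hR := d.hR
  N U _ a := d.restrN U a
  map_one U _ := by
    rw [NormData.restrN]
    exact (congrArg _ (_root_.map_one _)).trans (d.map_one _ _)
  map_mul U _ a b := by
    rw [NormData.restrN, NormData.restrN, NormData.restrN]
    exact (congrArg _ (_root_.map_mul _ _ _)).trans (d.map_mul _ _ _ _)
  natural U V _ h' a := by
    rw [NormData.restrN, NormData.restrN]
    refine (d.natural (W.ι ''ᵁ U) (W.ι ''ᵁ V) (W.ι_image_le U) (W.ι.image_mono h') _).trans ?_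
    exact congrArg _ ((H10Coh.rres_rres _ _ _).trans (H10Coh.rres_rres (X := X') _ _ _).symm)
  map_app U _ c := by
    rw [NormData.restrN, restrict_app_apply]
    refine (congrArg _ ((H10Coh.rres_rres (X := X') _ _ _).trans ?_)).trans (d.map_app _ (W.ι_image_le U) c)
    exact H10Coh.mres_self (Coh.structureModule X') (U := g ⁻¹ᵁ (W.ι ''ᵁ U)) _ _

theorem NormData.restr_reflects {d : NormData g W} (hd : d.Reflects) : d.restr.Reflects := by
  intro U _ a x hx
  have hx' : W.ι x ∈ X.basicOpen (d.restrN U a) :=
    (Scheme.Opens.mem_basicOpen_toScheme (U := W) (V := U) (r := d.restrN U a)).1 hx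
  obtain ⟨z, hz, hzb⟩ := hd _ _ _ _ hx'
  have hzW : z ∈ g ⁻¹ᵁ W := by
    change g z ∈ W
    rw [hz]
    exact x.2
  refine ⟨⟨z, hzW⟩, Subtype.ext ((morphismRestrict_base_coe g W _).trans hz), ?_⟩
  exact Scheme.Opens.mem_basicOpen_toScheme.2 ((X'.basicOpen_res _ _).le hzb).2

/-- Ampleness on an open descends along a finite morphism with a norm there. -/
theorem ampleOn_of_normData [IsFinite g] (hW : IsCompact (W : Set X)) (d : NormData g W) (hd : d.Reflects)
    {L : X.Modules} (hL : PicF.IsInvertible L)
    (h : AmpleOn ((Scheme.Modules.pullback g).obj L) (g ⁻¹ᵁ W)) : AmpleOn L W := by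
  haveI : CompactSpace W.toScheme := isCompact_iff_compactSpace.1 hW
  haveI : IsFinite (g ∣_ W) := MorphismProperty.of_isPullback (isPullback_morphismRestrict g W).flip inferInstance
  have h1 : CohB1.IsAmple ((Scheme.Modules.pullback (g ∣_ W)).obj ((Scheme.Modules.pullback W.ι).obj L)) := by
    rw [← isAmple_pullback_comp_iff, morphismRestrict_ι, isAmple_pullback_comp_iff]
    exact h
  exact isAmple_of_normData (g ∣_ W) d.restr (NormData.restr_reflects hd) (isInvertible_pullback W.ι hL) h1

end Groth.Agent.H11Norm
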