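import Groth.Agent.H11Norm.Coeff
import Groth.Agent.H7Lim.Approx.GlueRing
import Mathlib.AlgebraicGeometry.Morphisms.Integral
import Mathlib.AlgebraicGeometry.Morphisms.Finite

/-!
# The finite birational model: a finite type algebra of integral sections on the pieces
-/

set_option autoImplicit false
set_option linter.style.haveILetI false

noncomputable section

universe u

open CategoryTheory CategoryTheory.Limits AlgebraicGeometry Opposite TopologicalSpace
open Groth.Agent.H7Lim.Approx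

namespace Groth.Agent.H11Norm

variable {X X' Z : Scheme.{u}}

/-- An affine morphism bijective on sections over all affine opens inside `O` is an isomorphism over `O`. -/
theorem isIso_morphismRestrict_of_app (f : Z ⟶ X) [IsAffineHom f] (O : X.Opens)
    (h : ∀ B : X.Opens, IsAffineOpen B → B ≤ O → Function.Bijective (f.app B)) : IsIso (f ∣_ O) := by
  have hsup : (⨆ B : O.toScheme.affineOpens, B.1) = ⊤ := iSup_affineOpens_eq_top _
  refine (IsZariskiLocalAtTarget.iff_of_iSup_eq_top (P := MorphismProperty.isomorphisms Scheme.{u}) _ hsup).2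
    fun B => ?_
  have hB : IsAffineOpen (O.ι ''ᵁ B.1) := B.2.image_of_isOpenImmersion O.ι
  refine ((MorphismProperty.isomorphisms Scheme.{u}).arrow_mk_iso_iff (morphismRestrictRestrict f O B.1)).2 ?_
  haveI : IsAffine (O.ι ''ᵁ B.1).toScheme := hB
  haveI : IsAffine (f ⁻¹ᵁ (O.ι ''ᵁ B.1)).toScheme := hB.preimage f
  refine isIso_of_appTop_bijective _ ?_
  have hb := h ((O.ι ''ᵁ B.1).ι ''ᵁ ⊤) (by rw [Scheme.Opens.ι_image_top]; exact hB)
    (by rw [Scheme.Opens.ι_image_top]; exact O.ι_image_le _)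
  have hiso : IsIso (f.app ((O.ι ''ᵁ B.1).ι ''ᵁ ⊤)) := (ConcreteCategory.isIso_iff_bijective _).2 hb
  rw [← ConcreteCategory.isIso_iff_bijective, Scheme.Hom.appTop, morphismRestrict_app]
  exact @IsIso.comp_isIso _ _ _ _ _ _ _ hiso (Functor.map_isIso _ _)

variable {g : X' ⟶ X}

namespace Pieces

variable (p : Pieces g)

/-- An element of `bot` is one coming from the base. -/
theorem gen_empty_le_bot {V : X.Opens} {B : X.affineOpens} (h : B.1 ≤ V) :
    gen p.D.ι V ∅ B.1 h ≤ (Sub.bot p.D.ι).S B := by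
  rw [gen, Set.image_empty, Set.union_empty]
  exact Subring.closure_le.2 fun x hx => hx

theorem bot_le_gen_empty {V : X.Opens} {B : X.affineOpens} (h : B.1 ≤ V) :
    (Sub.bot p.D.ι).S B ≤ gen p.D.ι V ∅ B.1 h := by
  rintro _ ⟨s, rfl⟩
  exact app_mem_gen h s

variable [QuasiCompact p.D.ι] [QuasiSeparated p.D.ι]

/-- Integral sections which come from the base on a quasi-compact open. -/
theorem exists_ambient [QuasiSeparatedSpace X] {O : X.Opens} (hO : IsCompact (O : Set X)) :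
    ∃ J : Sub p.D.ι, J ≤ p.intSub ∧
      (∀ B : X.affineOpens, B.1 ≤ O → J.S B ≤ (Sub.bot p.D.ι).S B) ∧
      ∀ (U : X.affineOpens) (x : p.dsec U.1), x ∈ p.intRing U.1 →
        (∀ (B : X.affineOpens) (h : B.1 ≤ U.1), B.1 ≤ O → rX p.D.ι h x ∈ (Sub.bot p.D.ι).S B) →
        x ∈ J.S U := by
  classical
  obtain ⟨S, hS, hSeq⟩ := isCompact_iff_finite_and_eq_biUnion_affineOpens.1 hO
  suffices ∀ T : Finset X.affineOpens, (∀ V ∈ T, V.1 ≤ O) → ∃ J : Sub p.D.ι, J ≤ p.intSub ∧
      (∀ V ∈ T, ∀ B : X.affineOpens, B.1 ≤ V.1 → J.S B ≤ (Sub.bot p.D.ι).S B) ∧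
      ∀ (U : X.affineOpens) (x : p.dsec U.1), x ∈ p.intRing U.1 →
        (∀ (B : X.affineOpens) (h : B.1 ≤ U.1), B.1 ≤ O → rX p.D.ι h x ∈ (Sub.bot p.D.ι).S B) →
        x ∈ J.S U by
    obtain ⟨J, hJ, hloc, hmem⟩ := this hS.toFinset fun V hV =>
      (le_iSup₂ V (hS.mem_toFinset.1 hV)).trans_eq hSeq.symm
    refine ⟨J, hJ, fun B hB x hx => (Sub.bot p.D.ι).mem_of_cover B x fun y hy => ?_, hmem⟩
    have hyO : y ∈ O := hB hy
    rw [hSeq] at hyO
    obtain ⟨V, hV, hyV⟩ : ∃ V ∈ S, y ∈ V.1 := by simpa [Opens.mem_iSup] using hyO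
    obtain ⟨t, ht, hyt⟩ := B.2.exists_basicOpen_le ⟨y, hyV⟩ hy
    exact ⟨t, hyt, hloc V (hS.mem_toFinset.2 hV) (bas B t) ht (J.res_mem B t x hx)⟩
  intro T
  induction T using Finset.induction with
  | empty =>
    exact fun _ => ⟨p.intSub, le_rfl, fun V hV => absurd hV (Finset.notMem_empty V), fun _ _ hx _ => hx⟩
  | @insert V T _ ih =>
    intro hT
    obtain ⟨J, hJ, hloc, hmem⟩ := ih fun W hW => hT W (Finset.mem_insert_of_mem hW)
    refine ⟨J.cut V ∅, (J.cut_le V ∅).trans hJ, fun W hW B hB => ?_, fun U x hx hx' => ?_⟩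
    · rcases Finset.mem_insert.1 hW with rfl | hW
      · intro x hx
        have := hx.2 B le_rfl hB
        rw [rX_refl] at this
        exact p.gen_empty_le_bot hB this
      · exact fun x hx => hloc W hW B hB hx.1
    · exact ⟨hmem U x hx hx', fun B hB hBV =>
        p.bot_le_gen_empty hBV (hx' B hB (hBV.trans (hT V (Finset.mem_insert_self _ _))))⟩

/-- A section which extends locally on `B` comes from the base. -/
theorem mem_bot_of_extend [IsReduced X] (B : X.affineOpens) (x : p.dsec B.1)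
    (h : ∀ y ∈ B.1, ∃ (V : X.Opens) (hV : V ≤ B.1) (c : Γ(X, V)), y ∈ V ∧
      ∀ (i : p.ι) (hi : p.η i ∈ V), p.ev i B.1 (hV hi) x = X.presheaf.germ V (p.η i) hi c) :
    x ∈ (Sub.bot p.D.ι).S B := by
  refine (Sub.bot p.D.ι).mem_of_cover B x fun y hy => ?_
  obtain ⟨V, hV, c, hyV, hc⟩ := h y hy
  obtain ⟨t, ht, hyt⟩ := B.2.exists_basicOpen_le ⟨y, hyV⟩ hy
  refine ⟨t, hyt, res ht c, p.dsec_ext fun i hi => ?_⟩
  rw [p.ev_app, p.ev_res i (X.basicOpen_le t) hi, hc i (ht hi), TopCat.Presheaf.germ_res_apply]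

end Pieces

end Groth.Agent.H11Norm
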